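import Mathlib

/-!
# Classes of involutions whose non-commuting pairs have products of one prime order p ≥ 5

Local lemmas: conjugates with equal values, midpoints, and the excluded triangle.
-/

set_option autoImplicit false

namespace CfsgLib.RankThreeInvol

variable {G : Type*} [Group G]

/-- A conjugation-invariant set of involutions in which two members commute or have product
killed by `p`. -/
structure Setup (p : ℕ) (D : Set G) : Prop where
  one_not_mem : (1 : G) ∉ D
  mul_self : ∀ d ∈ D, d * d = 1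
  conj_mem : ∀ g : G, ∀ d ∈ D, g * d * g⁻¹ ∈ D
  dich : ∀ x ∈ D, ∀ y ∈ D, Commute x y ∨ (x * y) ^ p = 1

/-- Every pair of commuting members with a third member commuting with neither is good. -/
def Good (D : Set G) : Prop :=
  ∀ x ∈ D, ∀ a ∈ D, ∀ d ∈ D, Commute x a → x ≠ a → ¬ Commute d x → ¬ Commute d a →
    Commute d (x * a * d * (x * a))

/-- As `Good`, or else the product of the commuting pair lies in `D`. -/
def GoodOrMem (D : Set G) : Prop :=
  ∀ x ∈ D, ∀ a ∈ D, ∀ d ∈ D, Commute x a → x ≠ a → ¬ Commute d x → ¬ Commute d a →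
    Commute d (x * a * d * (x * a)) ∨ x * a ∈ D

theorem Good.goodOrMem {D : Set G} (h : Good D) : GoodOrMem D :=
  fun x hx a ha d hd h1 h2 h3 h4 => Or.inl (h x hx a ha d hd h1 h2 h3 h4)

theorem eq_one_of_pow_coprime {g : G} {m n : ℕ} (h1 : g ^ m = 1) (h2 : g ^ n = 1)
    (h : Nat.Coprime m n) : g = 1 := by
  have := pow_gcd_eq_one.2 ⟨h1, h2⟩
  rwa [h.gcd_eq_one, pow_one] at this

namespace Setup

variable {p : ℕ} {D : Set G}

theorem inv_eq (hS : Setup p D) {d : G} (hd : d ∈ D) : d⁻¹ = d :=
  inv_eq_of_mul_eq_one_left (hS.mul_self d hd)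

theorem cancel (hS : Setup p D) {d : G} (hd : d ∈ D) (g : G) : d * (d * g) = g := by
  rw [← mul_assoc, hS.mul_self d hd, one_mul]

theorem conj_mem' (hS : Setup p D) {x d : G} (hx : x ∈ D) (hd : d ∈ D) : x * d * x ∈ D := by
  simpa [hS.inv_eq hx] using hS.conj_mem x d hd

theorem ne_one (hS : Setup p D) {d : G} (hd : d ∈ D) : d ≠ 1 := fun h =>
  hS.one_not_mem (h ▸ hd)

theorem pow_of_nc (hS : Setup p D) {x y : G} (hx : x ∈ D) (hy : y ∈ D) (h : ¬ Commute x y) :
    (x * y) ^ p = 1 :=
  (hS.dich x hx y hy).resolve_left h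

theorem conj_eq_self (hS : Setup p D) {x d : G} (hx : x ∈ D) (h : Commute x d) :
    x * d * x = d := by
  rw [h.eq, mul_assoc, hS.mul_self x hx, mul_one]

theorem commute_of_conj_eq_self (hS : Setup p D) {x d : G} (hx : x ∈ D) (h : x * d * x = d) :
    Commute x d := by
  have := congrArg (fun t => t * x) h
  simp only [mul_assoc, hS.mul_self x hx, mul_one] at this
  exact this

theorem prod_mul_self (hS : Setup p D) {x a : G} (hx : x ∈ D) (ha : a ∈ D) (h : Commute x a) :
    x * a * (x * a) = 1 := by
  rw [h.symm.mul_mul_mul_comm, hS.mul_self x hx, hS.mul_self a ha, one_mul]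

section Local

variable (hp : p.Prime) (hp5 : 5 ≤ p)
include hp hp5

theorem odd_p : Odd p := hp.odd_of_ne_two (by omega)

/-- Two members giving equal conjugates of a third commute with it. -/
theorem commute_of_conj_eq (hS : Setup p D) {x a d : G} (hx : x ∈ D) (ha : a ∈ D) (hd : d ∈ D)
    (hne : x ≠ a) (h : x * d * x = a * d * a) : Commute d x ∧ Commute d a := by
  obtain ⟨k, hk⟩ := odd_p hp hp5
  have hg : Commute d (x * a) := by
    have h' := congrArg (fun t => x * t * a) h
    simp only [mul_assoc, hS.mul_self a ha, mul_one, hS.cancel hx] at h'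
    show d * (x * a) = x * a * d
    rw [h', mul_assoc]
  by_cases hdx : Commute d x
  · refine ⟨hdx, ?_⟩
    have := hg
    have h2 := hdx.mul_right this
    rwa [hS.cancel hx] at h2
  exfalso
  have hda : ¬ Commute d a := fun hc => hdx (by
    have h2 := hg.mul_right hc
    rwa [mul_assoc, hS.mul_self a ha, mul_one] at h2)
  have hxp := hS.pow_of_nc hd hx hdx
  have hap := hS.pow_of_nc hd ha hda
  by_cases hxa : Commute x a
  · have hg2 : x * a * (x * a) = 1 := hS.prod_mul_self hx ha hxa
    have he : d * a = d * x * (x * a) := by rw [mul_assoc, hS.cancel hx]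
    have hc : Commute (d * x) (x * a) :=
      hg.mul_left ((Commute.refl x).mul_right hxa)
    have hgp : (x * a) ^ p = x * a := by
      rw [hk, pow_succ, pow_mul, sq, hg2, one_pow, one_mul]
    rw [he, hc.mul_pow, hxp, hgp, one_mul] at hap
    exact hne (by rw [eq_inv_of_mul_eq_one_left hap, hS.inv_eq ha])
  · have hgp := hS.pow_of_nc hx ha hxa
    set g := x * a with hgdef
    set s := d * x with hs
    have hgi : g⁻¹ = a * x := by rw [hgdef, mul_inv_rev, hS.inv_eq ha, hS.inv_eq hx]
    have hxg : x * g * x = g⁻¹ := by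
      rw [hgi, hgdef, hS.cancel hx]
    have hsg : s * g = g⁻¹ * s := by
      have h1 : x * g = g⁻¹ * x := by
        rw [← hxg, mul_assoc _ x x, hS.mul_self x hx, mul_one]
      rw [hs, mul_assoc, h1, ← mul_assoc, hg.inv_right.eq, mul_assoc]
    have hsgi : s * g⁻¹ = g * s := by
      have h1 : SemiconjBy s g g⁻¹ := hsg
      have h2 := h1.inv_right
      rwa [inv_inv] at h2
    have h2 : Commute (s ^ 2) g := by
      show s ^ 2 * g = g * s ^ 2
      rw [sq, mul_assoc, hsg, ← mul_assoc, hsgi, mul_assoc]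
    have h3 : Commute s g := by
      have h4 : (s ^ 2) ^ k * s = 1 := by rw [← pow_mul, ← pow_succ, ← hk, hxp]
      rw [eq_inv_of_mul_eq_one_right h4]
      exact (h2.pow_left k).inv_left
    have h5 : g = g⁻¹ := mul_right_cancel (b := s) (h3.eq.symm.trans hsg)
    have h6 : g ^ 2 = 1 := by rw [sq]; nth_rw 2 [h5]; exact mul_inv_cancel g
    have h7 : g = 1 := eq_one_of_pow_coprime h6 hgp
      ((Nat.coprime_primes Nat.prime_two hp).2 (by omega))
    exact hne (by rw [eq_inv_of_mul_eq_one_left h7, hS.inv_eq ha])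

/-- If `d` commutes with its conjugate under `x` then it commutes with `x`. -/
theorem commute_of_commute_conj (hS : Setup p D) {x d : G} (hx : x ∈ D) (hd : d ∈ D)
    (h : Commute d (x * d * x)) : Commute d x := by
  by_contra hn
  have hsp := hS.pow_of_nc hd hx hn
  have h4 : (d * x) ^ 4 = 1 := by
    have e : (d * x) ^ 2 = d * (x * d * x) := by rw [sq]; group
    rw [show (4 : ℕ) = 2 * 2 from rfl, pow_mul, e, sq,
      hS.prod_mul_self hd (hS.conj_mem' hx hd) h]
  have hcop : Nat.Coprime 4 p := by
    rw [show (4 : ℕ) = 2 ^ 2 from rfl]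
    exact Nat.Coprime.pow_left 2 ((Nat.coprime_primes Nat.prime_two hp).2 (by omega))
  have h1 : d * x = 1 := eq_one_of_pow_coprime h4 hsp hcop
  exact hn (by rw [eq_inv_of_mul_eq_one_left h1, hS.inv_eq hx])

/-- Two non-commuting members are exchanged by a third. -/
theorem exists_mid (hS : Setup p D) {d e : G} (hd : d ∈ D) (he : e ∈ D) (hn : ¬ Commute d e) :
    ∃ y ∈ D, y * d * y = e := by
  obtain ⟨i, hi⟩ := odd_p hp hp5
  set u := d * e with hu
  have hup : u ^ p = 1 := hS.pow_of_nc hd he hn
  set k := i + 1 with hk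
  set j := (p - 1) * (k * k) with hj
  have hsc : SemiconjBy d u⁻¹ u := by
    show d * u⁻¹ = u * d
    rw [hu, mul_inv_rev, hS.inv_eq hd, hS.inv_eq he]
    group
  have hdj : d * (u ^ j)⁻¹ = u ^ j * d := by
    have := (hsc.pow_right j).eq
    rwa [inv_pow] at this
  refine ⟨u ^ j * d * (u ^ j)⁻¹, hS.conj_mem _ d hd, ?_⟩
  have hyeq : u ^ j * d * (u ^ j)⁻¹ = u ^ (j + j) * d := by
    rw [mul_assoc, hdj, ← mul_assoc, ← pow_add]
  rw [hyeq]
  have h2k : u ^ (2 * k) = u := by
    rw [show 2 * k = p + 1 by omega, pow_succ, hup, one_mul]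
  have hpow : u ^ (j + j + (j + j)) = u⁻¹ := by
    rw [show j + j + (j + j) = 2 * k * (2 * k) * (p - 1) by rw [hj]; ring, pow_mul, pow_mul, h2k,
      h2k]
    refine eq_inv_of_mul_eq_one_left ?_
    rw [← pow_succ, show p - 1 + 1 = p by have := hp.two_le; omega, hup]
  calc u ^ (j + j) * d * d * (u ^ (j + j) * d)
      = u ^ (j + j) * (d * d) * u ^ (j + j) * d := by group
    _ = u ^ (j + j + (j + j)) * d := by rw [hS.mul_self d hd, mul_one, ← pow_add]
    _ = e := by
      rw [hpow, hu, mul_inv_rev, hS.inv_eq hd, hS.inv_eq he, mul_assoc, hS.mul_self d hd, mul_one]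

/-- The exchanging member is unique. -/
theorem mid_unique (hS : Setup p D) {d e y z : G} (hd : d ∈ D) (hy : y ∈ D) (hz : z ∈ D)
    (hn : ¬ Commute d e) (h1 : y * d * y = e) (h2 : z * d * z = e) : y = z := by
  by_contra hne
  have hc := (commute_of_conj_eq hp hp5 hS hy hz hd hne (h1.trans h2.symm)).1
  rw [hS.conj_eq_self hy hc.symm] at h1
  exact hn (h1 ▸ Commute.refl d)

/-- The member exchanging `d` and its conjugate by `x * a` centralises both `x` and `a`. -/
theorem path_fix (hS : Setup p D) {x a d : G} (hx : x ∈ D) (ha : a ∈ D) (hd : d ∈ D)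
    (hxa : Commute x a) (hne : x ≠ a) (hn : ¬ Commute d (x * a * d * (x * a))) :
    ∃ y ∈ D, Commute y (x * a) ∧ Commute y x ∧ Commute y a ∧
      y * d * y = x * a * d * (x * a) := by
  set e := x * a with he
  have hee : e * e = 1 := hS.prod_mul_self hx ha hxa
  have hei : e⁻¹ = e := inv_eq_of_mul_eq_one_left hee
  have hd' : e * d * e ∈ D := by simpa [hei] using hS.conj_mem e d hd
  obtain ⟨y, hy, hyd⟩ := exists_mid hp hp5 hS hd hd' hn
  have hy' : e * y * e ∈ D := by simpa [hei] using hS.conj_mem e y hy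
  have hyd2 : y * (e * d * e) * y = d := by
    rw [← hyd]
    simp only [mul_assoc, hS.cancel hy, hS.mul_self y hy, mul_one]
  have h2 : e * y * e * d * (e * y * e) = e * d * e := by
    calc e * y * e * d * (e * y * e) = e * (y * (e * d * e) * y) * e := by group
      _ = e * d * e := by rw [hyd2]
  have hfix : e * y * e = y := mid_unique hp hp5 hS hd hy' hy hn h2 hyd
  have hye : Commute y e := by
    show y * e = e * y
    nth_rw 1 [← hfix]
    rw [mul_assoc, hee, mul_one]
  have hconj : x * y * x = a * y * a := by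
    calc x * y * x = a * (a * x) * y * x := by rw [hS.cancel ha]
      _ = a * (e * y) * x := by rw [← hxa.eq, ← he]; group
      _ = a * (y * e) * x := by rw [hye.eq]
      _ = a * y * (x * a * x) := by rw [he]; group
      _ = a * y * a := by rw [hS.conj_eq_self hx hxa]
  obtain ⟨h3, h4⟩ := commute_of_conj_eq hp hp5 hS hx ha hy hne hconj
  exact ⟨y, hy, hye, h3, h4, hyd⟩

/-- When the third member commutes with its conjugate under the product of the pair, the
resulting involution does not exchange the pair. -/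
theorem not_triangle (hS : Setup p D) {x a d : G} (hx : x ∈ D) (ha : a ∈ D) (hd : d ∈ D)
    (hxa : Commute x a) (hne : x ≠ a) (hdx : ¬ Commute d x)
    (hc : Commute d (x * a * d * (x * a)))
    (h : d * (x * a * d * (x * a)) * x * (d * (x * a * d * (x * a))) = a) : False := by
  set e := x * a with he
  set d' := e * d * e with hd'
  set f := d * d' with hf
  have hee : e * e = 1 := hS.prod_mul_self hx ha hxa
  have hei : e⁻¹ = e := inv_eq_of_mul_eq_one_left hee
  have hd'm : d' ∈ D := by rw [hd']; simpa [hei] using hS.conj_mem e d hd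
  have hff : f * f = 1 := hS.prod_mul_self hd hd'm hc
  have hef : e * f = d * e * d := by
    have e1 : f = d' * d := hc.eq
    rw [e1, hd']
    calc e * (e * d * e * d) = (e * e) * (d * e * d) := by group
      _ = d * e * d := by rw [hee, one_mul]
  have hfe : f * e = d * e * d := by
    rw [hf, hd']
    calc d * (e * d * e) * e = d * e * d * (e * e) := by group
      _ = d * e * d := by rw [hee, mul_one]
  have hxfx : x * f * x = e * f := by
    have h1 : f * x * f * x = e := by rw [h, he]; exact hxa.symm.eq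
    have h2 : x * f * x = f * e := by
      have := congrArg (fun t => f * t) h1
      simp only [← mul_assoc, hff, one_mul] at this
      exact this
    rw [h2, hfe, hef]
  have hdfd : d * f * d = f := by
    rw [hS.conj_eq_self hd ?_]
    show d * (d * d') = d * d' * d
    rw [mul_assoc, ← hc.eq]
  set s := x * d with hs
  have hsi : s⁻¹ = d * x := by rw [hs, mul_inv_rev, hS.inv_eq hd, hS.inv_eq hx]
  have c1 : s * f * s⁻¹ = e * f := by
    rw [hsi, hs, ← hxfx]
    calc x * d * f * (d * x) = x * (d * f * d) * x := by group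
      _ = x * f * x := by rw [hdfd]
  have c2 : s * (e * f) * s⁻¹ = e := by
    rw [hsi, hs, hef]
    have hxe : x * e * x = e :=
      hS.conj_eq_self hx ((Commute.refl x).mul_right hxa)
    calc x * d * (d * e * d) * (d * x) = x * ((d * d) * e * (d * d)) * x := by group
      _ = e := by rw [hS.mul_self d hd, one_mul, mul_one, hxe]
  have c3 : s * e * s⁻¹ = f := by
    have h4 : s * (e * f) * s⁻¹ = s * e * s⁻¹ * (e * f) := by
      calc s * (e * f) * s⁻¹ = s * e * s⁻¹ * (s * f * s⁻¹) := by group
        _ = s * e * s⁻¹ * (e * f) := by rw [c1]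
    rw [c2] at h4
    have h5 : f * e = e * f := by rw [hfe, hef]
    have h6 : s * e * s⁻¹ = e * (e * f)⁻¹ := by
      exact eq_mul_inv_of_mul_eq h4.symm
    have hfi : f⁻¹ = f := inv_eq_of_mul_eq_one_left hff
    rw [h6, mul_inv_rev, hei, hfi, ← mul_assoc, ← h5, mul_assoc, hee, mul_one]
  have hs3 : Commute (s ^ 3) e := by
    have h7 : s ^ 3 * e * (s ^ 3)⁻¹ = e := by
      calc s ^ 3 * e * (s ^ 3)⁻¹ = s * (s * (s * e * s⁻¹) * s⁻¹) * s⁻¹ := by
            rw [pow_succ, pow_succ, pow_one]; group
        _ = e := by rw [c3, c1, c2]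
    exact (mul_inv_eq_iff_eq_mul.1 h7)
  have hsp : s ^ p = 1 := hS.pow_of_nc hx hd (fun hh => hdx hh.symm)
  have hcop : Nat.Coprime 3 (orderOf s) :=
    Nat.Coprime.coprime_dvd_right (orderOf_dvd_of_pow_eq_one hsp)
      ((Nat.coprime_primes Nat.prime_three hp).2 (by omega))
  obtain ⟨m, hm⟩ := exists_pow_eq_self_of_coprime hcop
  have hse : Commute s e := by rw [← hm]; exact hs3.pow_left m
  have hfeq : f = e := by rw [← c3, hse.eq, mul_assoc, mul_inv_cancel, mul_one]
  rw [hfeq, ← ((Commute.refl x).mul_right hxa).eq, mul_assoc, hee, mul_one] at h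
  exact hne h

end Local

end Setup

end CfsgLib.RankThreeInvol
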