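import Cfsg.Agent.RankThreeInvol.Basic

/-!
# Commuting is transitive

When every commuting pair is good (or has its product in `D`) and the members of `D` generate,
commuting is an equivalence relation on `D`.
-/

set_option autoImplicit false

namespace CfsgLib.RankThreeInvol

variable {G : Type*} [Group G] {p : ℕ} {D : Set G}

namespace Setup

variable (hp : p.Prime) (hp5 : 5 ≤ p)
include hp hp5

/-- A member commuting with one of a commuting pair commutes with the other, when some member
commutes with neither of the pair. -/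
theorem twin (hS : Setup p D) (hGA : GoodOrMem D) {x a d d₀ : G} (hx : x ∈ D) (ha : a ∈ D)
    (hd : d ∈ D) (hd₀ : d₀ ∈ D) (hxa : Commute x a) (hne : x ≠ a) (hdx : ¬ Commute d x)
    (hda : ¬ Commute d a) (h0 : Commute d₀ x) : Commute d₀ a := by
  by_contra hn
  rcases hGA x hx a ha d hd hxa hne hdx hda with hgood | hmem
  swap
  · -- the product lies in `D`
    have hg : x * a ≠ a := fun h => hS.ne_one hx (mul_eq_right.1 h)
    have hconj : x * a * d₀ * (x * a) = a * d₀ * a := by
      calc x * a * d₀ * (x * a) = a * (x * d₀ * x) * a := by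
            nth_rw 1 [hxa.eq]; group
        _ = a * d₀ * a := by rw [hS.conj_eq_self hx h0.symm]
    exact hn (commute_of_conj_eq hp hp5 hS hmem ha hd₀ hg hconj).2
  set e := x * a with he
  set d' := e * d * e with hd'
  set f := d * d' with hf
  have hee : e * e = 1 := hS.prod_mul_self hx ha hxa
  have hei : e⁻¹ = e := inv_eq_of_mul_eq_one_left hee
  have hd'm : d' ∈ D := by rw [hd']; simpa [hei] using hS.conj_mem e d hd
  have hff : f * f = 1 := hS.prod_mul_self hd hd'm hgood
  have hfi : f⁻¹ = f := inv_eq_of_mul_eq_one_left hff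
  have hef : f * e = e * f := by
    rw [hf]
    nth_rw 2 [hgood.eq]
    rw [hd']
    calc d * (e * d * e) * e = d * e * d * (e * e) := by group
      _ = (e * e) * (d * e * d) := by rw [hee, mul_one, one_mul]
      _ = e * (e * d * e * d) := by group
  have hxe : Commute x e := (Commute.refl x).mul_right hxa
  have hae : Commute a e := hxa.symm.mul_right (Commute.refl a)
  set b := f * x * f with hb
  set c := f * a * f with hc
  have hbm : b ∈ D := by simpa [hfi] using hS.conj_mem f x hx
  have hcm : c ∈ D := by simpa [hfi] using hS.conj_mem f a ha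
  have hbc : b * c = e := by
    calc f * x * f * (f * a * f) = f * x * (f * f) * a * f := by group
      _ = f * e * f := by rw [hff, mul_one, mul_assoc f x a]
      _ = e := by rw [hef, mul_assoc, hff, mul_one]
  have hcb : c * b = e := by
    calc f * a * f * (f * x * f) = f * a * (f * f) * x * f := by group
      _ = f * e * f := by rw [hff, mul_one, mul_assoc f a x, ← hxa.eq]
      _ = e := by rw [hef, mul_assoc, hff, mul_one]
  have hbe : Commute b e := by
    have hfe : Commute f e := hef
    exact (hfe.mul_left hxe).mul_left hfe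
  have hce : Commute c e := by
    have hfe : Commute f e := hef
    exact (hfe.mul_left hae).mul_left hfe
  have hcomm : ∀ y ∈ D, Commute y e → Commute y x ∧ Commute y a := fun y hy hye =>
    commute_of_conj_eq hp hp5 hS hx ha hy hne (by
      calc x * y * x = a * (a * x) * y * x := by rw [hS.cancel ha]
        _ = a * (e * y) * x := by rw [← hxa.eq, ← he]; group
        _ = a * (y * e) * x := by rw [hye.eq]
        _ = a * y * (x * a * x) := by rw [he]; group
        _ = a * y * a := by rw [hS.conj_eq_self hx hxa])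
  obtain ⟨hbx, hba⟩ := hcomm b hbm hbe
  obtain ⟨hcx, hca⟩ := hcomm c hcm hce
  have hbnx : b ≠ x := by
    intro h
    have hfx : Commute x f := by
      show x * f = f * x
      nth_rw 1 [← h]
      rw [hb, mul_assoc, hff, mul_one]
    have hdd' : d ≠ d' := fun hh => hdx (hcomm d hd (by
      have h2 : e * d = d * e := by
        calc e * d = e * d * e * e := by rw [mul_assoc (e * d) e e, hee, mul_one]
          _ = d * e := by rw [← hd', ← hh]
      exact h2.symm)).1
    have h2 : d * x * d = d' * x * d' := by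
      calc d * x * d = d' * (d' * d) * x * d := by rw [hS.cancel hd'm]
        _ = d' * (f * x) * d := by rw [← hgood.eq, ← hf]; group
        _ = d' * (x * f) * d := by rw [hfx.eq]
        _ = d' * x * (d' * d * d) := by rw [hf, hgood.eq]; group
        _ = d' * x * d' := by rw [mul_assoc d' d d, hS.mul_self d hd, mul_one]
    exact hdx (commute_of_conj_eq hp hp5 hS hd hd'm hx hdd' h2).1.symm
  have hbna : b ≠ a := fun h => not_triangle hp hp5 hS hx ha hd hxa hne hdx hgood h
  have hcx2 : c * x = b * a := by
    calc c * x = b * (b * c) * x := by rw [hS.cancel hbm]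
      _ = b * (a * x * x) := by rw [hbc, he, hxa.eq]; group
      _ = b * a := by rw [mul_assoc a x x, hS.mul_self x hx, mul_one]
  have hca2 : c * a = b * x := by
    calc c * a = b * (b * c) * a := by rw [hS.cancel hbm]
      _ = b * (x * a * a) := by rw [hbc, he]; group
      _ = b * x := by rw [mul_assoc x a a, hS.mul_self a ha, mul_one]
  have hcna : c ≠ a := fun h => hbnx (by
    rw [h, hS.mul_self a ha] at hca2
    rw [eq_inv_of_mul_eq_one_left hca2.symm, hS.inv_eq hx])
  have hn0c : ¬ Commute d₀ c := fun h1 => hn (by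
    have h2 : Commute d₀ (b * a) := hcx2 ▸ h1.mul_right h0
    have h3 : b * d₀ * b = a * d₀ * a := by
      calc b * d₀ * b = b * d₀ * (b * a) * a := by
            rw [mul_assoc (b * d₀) (b * a) a, mul_assoc b a a, hS.mul_self a ha, mul_one]
        _ = b * (d₀ * (b * a)) * a := by group
        _ = b * (b * a * d₀) * a := by rw [h2.eq]
        _ = a * d₀ * a := by simp only [mul_assoc, hS.cancel hbm]
    exact (commute_of_conj_eq hp hp5 hS hbm ha hd₀ hbna h3).2)
  have hn0b : ¬ Commute d₀ b := fun h1 => hn (by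
    have h2 : Commute d₀ (c * a) := hca2 ▸ h1.mul_right h0
    have h3 : c * d₀ * c = a * d₀ * a := by
      calc c * d₀ * c = c * d₀ * (c * a) * a := by
            rw [mul_assoc (c * d₀) (c * a) a, mul_assoc c a a, hS.mul_self a ha, mul_one]
        _ = c * (d₀ * (c * a)) * a := by group
        _ = c * (c * a * d₀) * a := by rw [h2.eq]
        _ = a * d₀ * a := by simp only [mul_assoc, hS.cancel hcm]
    exact (commute_of_conj_eq hp hp5 hS hcm ha hd₀ hcna h3).2)
  set g := a * b with hg
  have hg1 : g = x * c := by rw [hg, hba.symm.eq, ← hcx2, hcx.eq]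
  have hconj : g * d₀ * g = c * d₀ * c := by
    have hg2 : g = c * x := by rw [hg1, hcx.symm.eq]
    nth_rw 1 [hg2]
    rw [hg1]
    calc c * x * d₀ * (x * c) = c * (x * d₀ * x) * c := by group
      _ = c * d₀ * c := by rw [hS.conj_eq_self hx h0.symm]
  rcases hGA a ha b hbm d₀ hd₀ hba.symm (Ne.symm hbna) hn hn0b with h1 | h1
  · rw [← hg, hconj] at h1
    exact hn0c (commute_of_commute_conj hp hp5 hS hcm hd₀ h1)
  · have hgc : g ≠ c := fun h => hS.ne_one hx (mul_eq_right.1 (hg1.symm.trans h))
    exact hn0c (commute_of_conj_eq hp hp5 hS h1 hcm hd₀ hgc hconj).2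

omit hp hp5 in
theorem closure_conj_induction (hS : Setup p D) (hgen : Subgroup.closure D = ⊤)
    (P : G → Prop) (h : ∀ d ∈ D, ∀ y, P y → P (d * y * d⁻¹)) (g y : G) (hy : P y) :
    P (g * y * g⁻¹) := by
  suffices H : ∀ g ∈ Subgroup.closure D, ∀ y, (P y → P (g * y * g⁻¹)) ∧
      (P y → P (g⁻¹ * y * g)) from (H g (hgen ▸ Subgroup.mem_top g) y).1 hy
  intro g hg
  induction hg using Subgroup.closure_induction with
  | mem d hd =>
    intro y
    exact ⟨h d hd y, fun hy => by simpa [hS.inv_eq hd] using h d hd y hy⟩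
  | one => intro y; simp
  | mul a b _ _ ha hb =>
    intro y
    refine ⟨fun hy => ?_, fun hy => ?_⟩
    · simpa [mul_assoc] using (ha _).1 ((hb y).1 hy)
    · simpa [mul_assoc] using (hb _).2 ((ha y).2 hy)
  | inv a _ ha =>
    intro y
    exact ⟨fun hy => by simpa using (ha y).2 hy, fun hy => by simpa using (ha y).1 hy⟩

/-- Commuting is transitive on a generating class. -/
theorem commute_trans (hS : Setup p D) (hGA : GoodOrMem D) (hgen : Subgroup.closure D = ⊤)
    (hcls : ∀ x ∈ D, ∀ y ∈ D, IsConj x y) {x a d₀ : G} (hx : x ∈ D) (ha : a ∈ D) (hd₀ : d₀ ∈ D)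
    (hxa : Commute x a) (h0 : Commute d₀ x) : Commute d₀ a := by
  rcases eq_or_ne x a with rfl | hne
  · exact h0
  by_contra hn
  let T : G → Prop := fun y =>
    y ∈ D ∧ Relation.ReflTransGen (fun u v => v ∈ D ∧ ¬ Commute u v) x y
  let P : G → Prop := fun y =>
    Commute y a ∧ y ≠ a ∧ ¬ ∀ z ∈ D, (Commute z y ↔ Commute z a)
  have hPx : P x := ⟨hxa, hne, fun h => hn ((h d₀ hd₀).1 h0)⟩
  have hstep : ∀ z w, z ∈ D → w ∈ D → ¬ Commute z w → P z → P w := by
    intro z w hz hw hzw ⟨hza, hzna, hntw⟩
    have hwa : Commute w a := by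
      by_contra hwa
      refine hntw fun v hv => ⟨fun h => ?_, fun h => ?_⟩
      · exact twin hp hp5 hS hGA hz ha hw hv hza hzna (fun h' => hzw h'.symm) hwa h
      · exact twin hp hp5 hS hGA ha hz hw hv hza.symm (Ne.symm hzna) hwa
          (fun h' => hzw h'.symm) h
    refine ⟨hwa, ?_, fun h => hzw ((h z hz).2 hza)⟩
    rintro rfl
    exact hzw hza
  have hTP : ∀ y, T y → P y := by
    rintro y ⟨-, hy⟩
    have key : y ∈ D ∧ P y := by
      induction hy with
      | refl => exact ⟨hx, hPx⟩
      | tail _ hbc ih => exact ⟨hbc.1, hstep _ _ ih.1 hbc.1 hbc.2 ih.2⟩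
    exact key.2
  have hTconj : ∀ d ∈ D, ∀ y, T y → T (d * y * d⁻¹) := by
    rintro d hd y ⟨hy, hxy⟩
    rw [hS.inv_eq hd]
    by_cases hdy : Commute y d
    · rw [hS.conj_eq_self hd hdy.symm]; exact ⟨hy, hxy⟩
    · have hmem := hS.conj_mem' hd hy
      exact ⟨hmem, hxy.tail ⟨hmem, fun h => hdy (commute_of_commute_conj hp hp5 hS hd hy h)⟩⟩
  obtain ⟨g, hg⟩ := isConj_iff.1 (hcls x hx a ha)
  have hTa : T a := hg ▸ closure_conj_induction hS hgen T hTconj g x ⟨hx, .refl⟩
  exact (hTP a hTa).2.1 rfl

end Setup

end CfsgLib.RankThreeInvol
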