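import Cfsg.Agent.RankThreeInvol.Cliques

/-!
# No simple group has such a class

The counting of triples: a Sylow p-subgroup would have to be larger than itself.
-/

set_option autoImplicit false

namespace CfsgLib.RankThreeInvol

variable {G : Type*} [Group G]

/-- A map of order dividing `p` on a finite set has as many fixed points as points modulo `p`. -/
theorem card_modEq_fixed {α : Type*} [DecidableEq α] {p : ℕ} (hp : p.Prime) (s : Finset α)
    (f : α → α) (hmap : ∀ a ∈ s, f a ∈ s) (hper : ∀ a ∈ s, f^[p] a = a) :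
    s.card ≡ (s.filter fun a => f a = a).card [MOD p] := by
  classical
  haveI := Fact.mk hp
  let F : Function.End ↥s := fun a => ⟨f a, hmap a a.2⟩
  have hit : ∀ (k : ℕ) (a : ↥s), (((F ^ k) a : ↥s) : α) = f^[k] a := by
    intro k
    induction k with
    | zero => intro a; rfl
    | succ k ih =>
      intro a
      rw [pow_succ, Function.iterate_succ_apply]
      exact ih (F a)
  have hF : F ^ p ^ 1 = 1 := by
    funext a
    exact Subtype.ext (by rw [pow_one, hit]; exact hper a a.2)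
  have h := Equiv.Perm.card_fixedPoints_modEq hF
  rw [Fintype.card_coe] at h
  refine h.trans (Eq.subst ?_ (Nat.ModEq.refl _))
  refine Finset.card_bij' (s := Finset.univ) (fun a _ => ((a : ↥s) : α))
    (fun a ha => ⟨⟨a, (Finset.mem_filter.1 ha).1⟩, Subtype.ext (Finset.mem_filter.1 ha).2⟩)
    (fun a _ => Finset.mem_filter.2 ⟨a.1.2, congrArg Subtype.val a.2⟩)
    (fun _ _ => Finset.mem_univ _) (fun _ _ => rfl) (fun _ _ => rfl)

/-- A subgroup acting freely by simultaneous conjugation divides the number of pairs. -/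
theorem card_dvd_of_free [Finite G] (P : Subgroup G) (S : Finset (G × G))
    (hinv : ∀ w ∈ P, ∀ t ∈ S, (w * t.1 * w⁻¹, w * t.2 * w⁻¹) ∈ S)
    (hfree : ∀ w ∈ P, ∀ t ∈ S, Commute w t.1 → Commute w t.2 → w = 1) :
    Nat.card P ∣ S.card := by
  classical
  let Pt : Finset G := (P : Set G).toFinite.toFinset
  have hPt : ∀ g, g ∈ Pt ↔ g ∈ P := fun g => Set.Finite.mem_toFinset _
  let o : G × G → Finset (G × G) := fun t =>
    Pt.image fun w => (w * t.1 * w⁻¹, w * t.2 * w⁻¹)
  have hcard : ∀ t ∈ S, (o t).card = Nat.card P := by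
    intro t ht
    have hPc : Pt.card = Nat.card P := by
      rw [← SetLike.coe_sort_coe, Nat.card_coe_set_eq,
        Set.ncard_eq_toFinset_card _ (P : Set G).toFinite]
    rw [← hPc]
    refine Finset.card_image_of_injOn fun u hu v hv huv => ?_
    rw [Finset.mem_coe, hPt] at hu hv
    simp only [Prod.mk.injEq] at huv
    have hcom : ∀ z : G, u * z * u⁻¹ = v * z * v⁻¹ → Commute (v⁻¹ * u) z := by
      intro z hz
      show v⁻¹ * u * z = z * (v⁻¹ * u)
      calc v⁻¹ * u * z = v⁻¹ * (u * z * u⁻¹) * u := by group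
        _ = v⁻¹ * (v * z * v⁻¹) * u := by rw [hz]
        _ = z * (v⁻¹ * u) := by group
    exact (inv_mul_eq_one.1 (hfree _ (P.mul_mem (P.inv_mem hv) hu) t ht (hcom _ huv.1)
      (hcom _ huv.2))).symm
  have hsub : ∀ t ∈ S, o t ⊆ S := by
    intro t ht r hr
    obtain ⟨w, hw, rfl⟩ := Finset.mem_image.1 hr
    exact hinv w ((hPt w).1 hw) t ht
  have heq : ∀ t r : G × G, r ∈ o t → o r = o t := by
    intro t r hr
    obtain ⟨w, hw, rfl⟩ := Finset.mem_image.1 hr
    rw [hPt] at hw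
    ext z
    simp only [o, Finset.mem_image, hPt]
    constructor
    · rintro ⟨u, hu, rfl⟩
      exact ⟨u * w, P.mul_mem hu hw, by simp [mul_assoc]⟩
    · rintro ⟨u, hu, rfl⟩
      exact ⟨u * w⁻¹, P.mul_mem hu (P.inv_mem hw), by simp [mul_assoc]⟩
  have hmem : ∀ t, t ∈ o t := fun t =>
    Finset.mem_image.2 ⟨1, (hPt 1).2 P.one_mem, by simp⟩
  rw [Finset.card_eq_sum_card_image o S]
  refine Finset.dvd_sum fun b hb => ?_
  obtain ⟨t, ht, rfl⟩ := Finset.mem_image.1 hb
  have hfib : S.filter (fun r => o r = o t) = o t := by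
    ext r
    rw [Finset.mem_filter]
    exact ⟨fun h => h.2 ▸ hmem r, fun h => ⟨hsub t ht h, heq t r h⟩⟩
  rw [hfib, hcard t ht]

theorem commute_conj_iff (g x y : G) :
    Commute (g * x * g⁻¹) (g * y * g⁻¹) ↔ Commute x y := by
  refine ⟨fun h => ?_, fun h => ?_⟩
  · simpa [mul_assoc] using h.map (MulAut.conj g⁻¹).toMonoidHom
  · simpa using h.map (MulAut.conj g).toMonoidHom

theorem conj_iterate (u t : G) (k : ℕ) :
    (fun s => u * s * u⁻¹)^[k] t = u ^ k * t * (u ^ k)⁻¹ := by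
  induction k with
  | zero => simp
  | succ k ih => rw [Function.iterate_succ_apply', ih, pow_succ']; group

namespace Setup

variable {p : ℕ} {D : Set G} (hp : p.Prime) (hp5 : 5 ≤ p)
include hp hp5

omit hp hp5 in
/-- The elements fixing every class of commuting members form a normal subgroup. -/
theorem exists_commKer (hS : Setup p D)
    (htr : ∀ u ∈ D, ∀ v ∈ D, ∀ w ∈ D, Commute u v → Commute v w → Commute u w) :
    ∃ K : Subgroup G, K.Normal ∧ ∀ g, g ∈ K ↔ ∀ d ∈ D, Commute (g * d * g⁻¹) d := by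
  refine ⟨{ carrier := {g | ∀ d ∈ D, Commute (g * d * g⁻¹) d}
            mul_mem' := ?_
            one_mem' := ?_
            inv_mem' := ?_ }, ⟨?_⟩, fun g => Iff.rfl⟩
  · intro a b ha hb d hd
    have h1 := ha _ (hS.conj_mem b d hd)
    have h2 := hb d hd
    have e : a * b * d * (a * b)⁻¹ = a * (b * d * b⁻¹) * a⁻¹ := by group
    rw [e]
    exact htr _ (hS.conj_mem a _ (hS.conj_mem b d hd)) _ (hS.conj_mem b d hd) _ hd h1 h2
  · intro d hd
    simp
  · intro a ha d hd
    have h1 := ha _ (hS.conj_mem a⁻¹ d hd)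
    have e : a * (a⁻¹ * d * a⁻¹⁻¹) * a⁻¹ = d := by group
    rw [e] at h1
    exact h1.symm
  · intro n hn g d hd
    have h1 := (commute_conj_iff g _ _).2 (hn _ (hS.conj_mem g⁻¹ d hd))
    have e1 : g * (g⁻¹ * d * g⁻¹⁻¹) * g⁻¹ = d := by group
    have e2 : g * (n * (g⁻¹ * d * g⁻¹⁻¹) * n⁻¹) * g⁻¹ =
        g * n * g⁻¹ * d * (g * n * g⁻¹)⁻¹ := by group
    rwa [e1, e2] at h1

omit hp hp5 in
/-- The product of a commuting pair fixes every class, once all such triples are good. -/
theorem prod_mem_commKer (hS : Setup p D)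
    (htr : ∀ u ∈ D, ∀ v ∈ D, ∀ w ∈ D, Commute u v → Commute v w → Commute u w)
    {x a : G} (hx : x ∈ D) (ha : a ∈ D) (hxa : Commute x a)
    (hgood : ∀ d ∈ D, ¬ Commute d x → ¬ Commute d a → Commute d (x * a * d * (x * a))) :
    ∀ d ∈ D, Commute (x * a * d * (x * a)⁻¹) d := by
  intro d hd
  rw [inv_eq_of_mul_eq_one_left (hS.prod_mul_self hx ha hxa)]
  by_cases hdx : Commute d x
  · have hda : Commute d a := htr d hd x hx a ha hdx hxa
    have he : Commute (x * a) d := (hdx.symm).mul_left hda.symm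
    rw [he.eq, mul_assoc, hS.prod_mul_self hx ha hxa, mul_one]
  · exact (hgood d hd hdx fun h => hdx (htr d hd a ha x hx h hxa.symm)).symm

/-- A finite simple group has no such class in which some triple exists. -/
theorem no_simple [Finite G] (hS : Setup p D) (hGA : GoodOrMem D)
    (hgen : Subgroup.closure D = ⊤) (hcls : ∀ x ∈ D, ∀ y ∈ D, IsConj x y)
    (hsimple : ∀ N : Subgroup G, N.Normal → N = ⊥ ∨ N = ⊤)
    (hsub : ∀ H : Subgroup G, H ≠ ⊤ → ∀ x ∈ D, ∀ a ∈ D, ∀ d ∈ D, x ∈ H → a ∈ H → d ∈ H →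
      Commute x a → x ≠ a → ¬ Commute d x → ¬ Commute d a →
      Commute d (x * a * d * (x * a)))
    {x₀ a₀ d₀ : G} (hx₀ : x₀ ∈ D) (ha₀ : a₀ ∈ D) (hd₀ : d₀ ∈ D) (hxa₀ : Commute x₀ a₀)
    (hne₀ : x₀ ≠ a₀) (hdx₀ : ¬ Commute d₀ x₀) : False := by
  classical
  haveI := Fact.mk hp
  have htr : ∀ u ∈ D, ∀ v ∈ D, ∀ w ∈ D, Commute u v → Commute v w → Commute u w :=
    fun u hu v hv w hw huv hvw => commute_trans hp hp5 hS hGA hgen hcls hv hw hu hvw huv
  -- products of commuting pairs lie in `D`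
  have hprodD : ∀ x ∈ D, ∀ a ∈ D, Commute x a → x ≠ a → x * a ∈ D := by
    intro x hx a ha hxa hne
    by_contra hm
    obtain ⟨K, hK, hKm⟩ := exists_commKer hS htr
    have he : x * a ∈ K := (hKm _).2 (prod_mem_commKer hS htr hx ha hxa
      fun d hd h1 h2 => (hGA x hx a ha d hd hxa hne h1 h2).resolve_right hm)
    rcases hsimple K hK with h | h
    · rw [h, Subgroup.mem_bot] at he
      exact hne (by rw [eq_inv_of_mul_eq_one_left he, hS.inv_eq ha])
    · obtain ⟨g, hg⟩ := isConj_iff.1 (hcls x₀ hx₀ d₀ hd₀)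
      have := (hKm g).1 (h ▸ Subgroup.mem_top g) x₀ hx₀
      rw [hg] at this
      exact hdx₀ this
  have hbad : ∀ x ∈ D, ∀ a ∈ D, ∀ y ∈ D, Commute x a → x ≠ a → ¬ Commute y x →
      ¬ Commute y (x * a * y * (x * a)) := by
    intro x hx a ha y hy hxa hne hyx h
    have hm := hprodD x hx a ha hxa hne
    have hye : Commute y (x * a) := commute_of_commute_conj hp hp5 hS hm hy h
    have he : x * a * y * (x * a) = y := by
      rw [← hye.eq, mul_assoc, hS.mul_self _ hm, mul_one]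
    have hconj : x * y * x = a * y * a := by
      have h1 : x * (x * a * y * (x * a)) * x = a * y * a := by
        nth_rw 2 [hxa.eq]
        simp only [mul_assoc, hS.cancel hx, hS.mul_self x hx, mul_one]
      rw [he] at h1
      exact h1
    exact hyx (commute_of_conj_eq hp hp5 hS hx ha hy hne hconj).1
  have hclash : ∀ x ∈ D, ∀ y ∈ D, ∀ d ∈ D, Commute x y → x ≠ y → ¬ Commute d x →
      ¬ Commute (x * d * x) (y * d * y) := by
    intro x hx y hy d hd hxy hne hdx h
    refine hbad x hx y hy d hd hxy hne hdx ?_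
    have h2 := (commute_conj_iff x _ _).2 h
    rw [hS.inv_eq hx] at h2
    convert h2 using 1
    · simp only [mul_assoc, hS.cancel hx, hS.mul_self x hx, mul_one]
    · nth_rw 2 [hxy.eq]; group
  -- the classes
  let Dt : Finset G := D.toFinite.toFinset
  have hDt : ∀ d, d ∈ Dt ↔ d ∈ D := fun d => Set.Finite.mem_toFinset _
  let bl : G → Finset G := fun x => Dt.filter (Commute x)
  have hbl : ∀ x y, y ∈ bl x ↔ y ∈ D ∧ Commute x y := by
    intro x y; simp only [bl, Finset.mem_filter, hDt]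
  have hbleq : ∀ x ∈ D, ∀ y ∈ D, bl x = bl y ↔ Commute x y := by
    intro x hx y hy
    refine ⟨fun h => ?_, fun h => ?_⟩
    · exact ((hbl x y).1 (h ▸ (hbl y y).2 ⟨hy, Commute.refl y⟩)).2
    · ext z
      rw [hbl, hbl]
      exact ⟨fun hz => ⟨hz.1, htr y hy x hx z hz.1 h.symm hz.2⟩,
        fun hz => ⟨hz.1, htr x hx y hy z hz.1 h hz.2⟩⟩
  have hblconj : ∀ (g : G) (x : G), (bl x).image (fun t => g * t * g⁻¹) = bl (g * x * g⁻¹) := by
    intro g x
    ext z
    simp only [Finset.mem_image, hbl]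
    constructor
    · rintro ⟨t, ⟨ht, hxt⟩, rfl⟩
      exact ⟨hS.conj_mem g t ht, (commute_conj_iff g x t).2 hxt⟩
    · rintro ⟨hz, hxz⟩
      refine ⟨g⁻¹ * z * g, ⟨by simpa using hS.conj_mem g⁻¹ z hz, ?_⟩, by group⟩
      refine (commute_conj_iff g x _).1 ?_
      convert hxz using 1
      group
  set q := (bl x₀).card with hq
  have hconjinj : ∀ g : G, Function.Injective (fun t => g * t * g⁻¹) := fun g =>
    (MulAut.conj g).injective
  have hblcard : ∀ x ∈ D, (bl x).card = q := by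
    intro x hx
    obtain ⟨g, hg⟩ := isConj_iff.1 (hcls x₀ hx₀ x hx)
    rw [← hg, ← hblconj, Finset.card_image_of_injective _ (hconjinj g)]
  have hq2 : 2 ≤ q := Finset.one_lt_card.2
    ⟨x₀, (hbl _ _).2 ⟨hx₀, Commute.refl _⟩, a₀, (hbl _ _).2 ⟨ha₀, hxa₀⟩, hne₀⟩
  have hunion : ∀ S : Finset G, (∀ δ ∈ S, δ ∈ D) →
      (∀ δ ∈ S, ∀ ε ∈ D, Commute δ ε → ε ∈ S) → S.card = q * (S.image bl).card := by
    intro S hSD hSc
    rw [Finset.card_eq_sum_card_image bl S, mul_comm]
    refine (Finset.sum_const_nat fun b hb => ?_)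
    obtain ⟨δ, hδ, rfl⟩ := Finset.mem_image.1 hb
    have hf : S.filter (fun t => bl t = bl δ) = bl δ := by
      ext t
      rw [Finset.mem_filter, hbl]
      exact ⟨fun h => ⟨hSD t h.1, ((hbleq δ (hSD δ hδ) t (hSD t h.1)).1 h.2.symm)⟩,
        fun h => ⟨hSc δ hδ t h.1 h.2, ((hbleq δ (hSD δ hδ) t h.1).2 h.2).symm⟩⟩
    rw [hf, hblcard δ (hSD δ hδ)]
  set N := (Dt.image bl).card with hN
  have hv : Dt.card = q * N := hunion Dt (fun δ h => (hDt δ).1 h) (fun _ _ ε hε _ => (hDt ε).2 hε)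
  -- the fixed sets
  let nb : G → Finset G := fun x => Dt.filter fun y => ¬ Commute x y
  have hnbcard : ∀ x ∈ D, (nb x).card = q * (N - 1) := by
    intro x hx
    have h1 := Finset.card_filter_add_card_filter_not (s := Dt) (Commute x)
    have h2 : (Dt.filter (Commute x)).card = q := hblcard x hx
    rw [h2, hv] at h1
    show (Dt.filter fun y => ¬ Commute x y).card = _
    rw [Nat.mul_sub, mul_one]
    omega
  let C : G → G → G → Prop := fun x y δ => Commute (x * δ * x) (y * δ * y)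
  let fx : G → G → Finset G := fun x y => Dt.filter (C x y)
  have hfx : ∀ x y δ, δ ∈ fx x y ↔ δ ∈ D ∧ C x y δ := by
    intro x y δ; simp only [fx, Finset.mem_filter, hDt]
  have hfxnc : ∀ x ∈ D, ∀ y ∈ D, ¬ Commute x y → ∀ δ ∈ D, C x y δ → ¬ Commute δ x := by
    intro x hx y hy hxy δ hδ h hδx
    simp only [C] at h
    rw [hS.conj_eq_self hx hδx.symm] at h
    exact hxy (htr x hx δ hδ y hy hδx.symm (commute_of_commute_conj hp hp5 hS hy hδ h))
  have hcount : ∀ x ∈ D, ∀ δ ∈ D, ¬ Commute δ x →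
      ((nb x).filter fun y => C x y δ).card = q - 1 := by
    intro x hx δ hδ hδx
    set w := x * δ * x with hw
    have hwD : w ∈ D := hS.conj_mem' hx hδ
    have hnwδ : ∀ t ∈ D, Commute w t → ¬ Commute δ t := fun t ht h1 h2 => hδx
      (commute_of_commute_conj hp hp5 hS hx hδ (htr δ hδ t ht w hwD h2 h1.symm))
    have hcard : (Dt.filter fun y => C x y δ).card = q := by
      rw [← hblcard w hwD]
      refine Finset.card_bij (fun y _ => y * δ * y) (fun y hy => ?_) (fun y₁ h1 y₂ h2 he => ?_)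
        (fun t ht => ?_)
      · rw [Finset.mem_filter, hDt] at hy
        exact (hbl _ _).2 ⟨hS.conj_mem' hy.1 hδ, hy.2⟩
      · rw [Finset.mem_filter, hDt] at h1 h2
        exact mid_unique hp hp5 hS hδ h1.1 h2.1
          (hnwδ _ (hS.conj_mem' h1.1 hδ) h1.2) rfl he.symm
      · rw [hbl] at ht
        obtain ⟨y, hy, hyt⟩ := exists_mid hp hp5 hS hδ ht.1 (hnwδ t ht.1 ht.2)
        exact ⟨y, Finset.mem_filter.2 ⟨(hDt y).2 hy, by show Commute w _; rw [hyt]; exact ht.2⟩,
          hyt⟩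
    have hxmem : x ∈ Dt.filter fun y => C x y δ :=
      Finset.mem_filter.2 ⟨(hDt x).2 hx, Commute.refl _⟩
    have hset : (nb x).filter (fun y => C x y δ) = (Dt.filter fun y => C x y δ).erase x := by
      ext y
      simp only [nb, Finset.mem_filter, Finset.mem_erase, hDt]
      constructor
      · rintro ⟨⟨hy, hxy⟩, hc⟩
        exact ⟨fun h => hxy (h ▸ Commute.refl x), hy, hc⟩
      · rintro ⟨hne, hy, hc⟩
        exact ⟨⟨hy, fun h => hclash x hx y hy δ hδ h (Ne.symm hne) hδx hc⟩, hc⟩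
    rw [hset, Finset.card_erase_of_mem hxmem, hcard]
  have hsumx : ∀ x ∈ D, ∑ y ∈ nb x, (fx x y).card = (nb x).card * (q - 1) := by
    intro x hx
    have h := Finset.sum_card_bipartiteAbove_eq_sum_card_bipartiteBelow
      (s := nb x) (t := Dt) (fun y δ => C x y δ)
    simp only [Finset.bipartiteAbove, Finset.bipartiteBelow] at h
    rw [h, ← Finset.sum_filter_add_sum_filter_not Dt (fun δ => ¬ Commute x δ)]
    have hz : ∑ δ ∈ Dt.filter (fun δ => ¬¬ Commute x δ),
        ((nb x).filter fun y => C x y δ).card = 0 := by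
      refine Finset.sum_eq_zero fun δ hδ => ?_
      rw [Finset.mem_filter, hDt, not_not] at hδ
      rw [Finset.card_eq_zero, Finset.filter_eq_empty_iff]
      intro y hy hc
      simp only [nb, Finset.mem_filter, hDt] at hy
      exact hfxnc x hx y hy.1 hy.2 δ hδ.1 hc hδ.2.symm
    rw [hz, add_zero]
    refine Finset.sum_const_nat fun δ hδ => ?_
    rw [Finset.mem_filter, hDt] at hδ
    exact hcount x hx δ hδ.1 fun h => hδ.2 h.symm
  let Om : Finset (G × G) := (Dt ×ˢ Dt).filter fun t => ¬ Commute t.1 t.2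
  have hOm : ∀ t, t ∈ Om ↔ t.1 ∈ D ∧ t.2 ∈ D ∧ ¬ Commute t.1 t.2 := by
    intro t; simp only [Om, Finset.mem_filter, Finset.mem_product, hDt, and_assoc]
  have hsum : ∑ t ∈ Om, (fx t.1 t.2).card = q * N * (q * (N - 1)) * (q - 1) := by
    have h : ∑ t ∈ Om, (fx t.1 t.2).card = ∑ x ∈ Dt, ∑ y ∈ nb x, (fx x y).card := by
      simp only [Om, nb, Finset.sum_filter, Finset.sum_product]
    rw [h, Finset.sum_const_nat (m := q * (N - 1) * (q - 1)) (fun x hx => by
      rw [hsumx x ((hDt x).1 hx), hnbcard x ((hDt x).1 hx)]), hv]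
    ring
  have hOmcard : Om.card = q * N * (q * (N - 1)) := by
    have h : Om.card = ∑ x ∈ Dt, (nb x).card := by
      simp only [Finset.card_eq_sum_ones, Om, nb, Finset.sum_filter, Finset.sum_product]
    rw [h, Finset.sum_const_nat (fun x hx => hnbcard x ((hDt x).1 hx)), hv]
  have hfxclosed : ∀ x ∈ D, ∀ y ∈ D, ∀ δ ∈ fx x y, ∀ ε ∈ D, Commute δ ε → ε ∈ fx x y := by
    intro x hx y hy δ hδ ε hε hc
    rw [hfx] at hδ ⊢
    have e : ∀ z ∈ D, Commute (z * δ * z) (z * ε * z) := fun z hz => by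
      have := (commute_conj_iff z _ _).2 hc
      rwa [hS.inv_eq hz] at this
    refine ⟨hε, htr _ (hS.conj_mem' hx hε) _ (hS.conj_mem' hx hδ.1) _ (hS.conj_mem' hy hε)
      (e x hx).symm (htr _ (hS.conj_mem' hx hδ.1) _ (hS.conj_mem' hy hδ.1) _
        (hS.conj_mem' hy hε) hδ.2 (e y hy))⟩
  have hfxcard : ∀ x ∈ D, ∀ y ∈ D, (fx x y).card = q * ((fx x y).image bl).card :=
    fun x hx y hy => hunion _ (fun δ h => ((hfx x y δ).1 h).1) (hfxclosed x hx y hy)
  have hC : ∀ x ∈ D, ∀ y ∈ D, ∀ δ, C x y δ ↔ Commute δ (x * y * δ * (x * y)⁻¹) := by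
    intro x hx y hy δ
    rw [← commute_conj_iff x δ]
    have e : x * (x * y * δ * (x * y)⁻¹) * x⁻¹ = y * δ * y := by
      rw [mul_inv_rev, hS.inv_eq hx, hS.inv_eq hy]
      simp only [mul_assoc, hS.cancel hx, hS.mul_self x hx, mul_one]
    rw [e, hS.inv_eq hx]
  have hiter : ∀ x ∈ D, ∀ y ∈ D, ¬ Commute x y → ∀ t : G,
      (fun s => x * y * s * (x * y)⁻¹)^[p] t = t := by
    intro x hx y hy hxy t
    rw [conj_iterate, hS.pow_of_nc hx hy hxy]
    simp
  have hblocks : ∀ x ∈ D, ∀ y ∈ D, ¬ Commute x y →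
      N ≡ ((fx x y).image bl).card [MOD p] := by
    intro x hx y hy hxy
    let c : G → G := fun s => x * y * s * (x * y)⁻¹
    have himit : ∀ (k : ℕ) (s : Finset G),
        (fun b : Finset G => b.image c)^[k] s = s.image (c^[k]) := by
      intro k
      induction k with
      | zero => intro s; simp
      | succ k ih =>
        intro s
        rw [Function.iterate_succ_apply', ih, Finset.image_image, ← Function.iterate_succ']
    have h := card_modEq_fixed hp (Dt.image bl) (fun b => b.image c)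
      (fun b hb => by
        obtain ⟨δ, hδ, rfl⟩ := Finset.mem_image.1 hb
        rw [hblconj]
        exact Finset.mem_image_of_mem bl ((hDt _).2 (hS.conj_mem _ δ ((hDt δ).1 hδ))))
      (fun b hb => by
        rw [himit, show c^[p] = id from funext (hiter x hx y hy hxy), Finset.image_id])
    have hfix : (Dt.image bl).filter (fun b => b.image c = b) = (fx x y).image bl := by
      ext b
      simp only [Finset.mem_filter, Finset.mem_image, hDt, hfx]
      constructor
      · rintro ⟨⟨δ, hδ, rfl⟩, h⟩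
        rw [hblconj] at h
        exact ⟨δ, ⟨hδ, (hC x hx y hy δ).2
          ((hbleq _ (hS.conj_mem _ δ hδ) δ hδ).1 h).symm⟩, rfl⟩
      · rintro ⟨δ, ⟨hδ, hc⟩, rfl⟩
        exact ⟨⟨δ, hδ, rfl⟩, by
          rw [hblconj]
          exact (hbleq _ (hS.conj_mem _ δ hδ) δ hδ).2 ((hC x hx y hy δ).1 hc).symm⟩
    rw [hfix] at h
    exact h
  have hN2 : 2 ≤ N := by
    refine Finset.one_lt_card.2 ⟨bl x₀, Finset.mem_image_of_mem _ ((hDt _).2 hx₀), bl d₀,
      Finset.mem_image_of_mem _ ((hDt _).2 hd₀), fun h => hdx₀ ?_⟩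
    exact ((hbleq x₀ hx₀ d₀ hd₀).1 h).symm
  -- `p` divides `N`
  have hpN : p ∣ N := by
    by_contra hpN
    have hge : ∀ t ∈ Om, q ≤ (fx t.1 t.2).card := by
      intro t ht
      rw [hOm] at ht
      rw [hfxcard _ ht.1 _ ht.2.1]
      refine Nat.le_mul_of_pos_right q (Nat.pos_of_ne_zero fun h0 => hpN ?_)
      have := hblocks _ ht.1 _ ht.2.1 ht.2.2
      rw [h0] at this
      exact Nat.modEq_zero_iff_dvd.1 this
    have h1 : Om.card * q ≤ Om.card * (q - 1) := by
      calc Om.card * q = ∑ t ∈ Om, q := by rw [Finset.sum_const, smul_eq_mul]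
        _ ≤ ∑ t ∈ Om, (fx t.1 t.2).card := Finset.sum_le_sum hge
        _ = Om.card * (q - 1) := by rw [hsum, hOmcard]
    have hpos : 0 < Om.card := by
      rw [hOmcard]
      have : 0 < q * N := Nat.mul_pos (by omega) (by omega)
      exact Nat.mul_pos this (Nat.mul_pos (by omega) (by omega))
    have := Nat.le_of_mul_le_mul_left h1 hpos
    omega
  -- `p` divides `q`
  have hpq : p ∣ q := by
    have hnb : 0 < (nb x₀).card := by
      rw [hnbcard x₀ hx₀]; exact Nat.mul_pos (by omega) (by omega)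
    obtain ⟨δ, hδ⟩ := Finset.card_pos.1 hnb
    simp only [nb, Finset.mem_filter, hDt] at hδ
    have hpos : 0 < ((nb x₀).filter fun y => C x₀ y δ).card := by
      rw [hcount x₀ hx₀ δ hδ.1 fun h => hδ.2 h.symm]; omega
    obtain ⟨y, hy⟩ := Finset.card_pos.1 hpos
    simp only [nb, Finset.mem_filter, hDt] at hy
    obtain ⟨⟨hyD, hxy⟩, hc⟩ := hy
    let c : G → G := fun s => x₀ * y * s * (x₀ * y)⁻¹
    have hblδ : bl (c δ) = bl δ :=
      (hbleq _ (hS.conj_mem _ δ hδ.1) δ hδ.1).2 ((hC x₀ hx₀ y hyD δ).1 hc).symm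
    have h := card_modEq_fixed hp (bl δ) c
      (fun t ht => by rw [← hblδ, ← hblconj]; exact Finset.mem_image_of_mem _ ht)
      (fun t _ => hiter x₀ hx₀ y hyD hxy t)
    have hnofix : (bl δ).filter (fun t => c t = t) = ∅ := by
      rw [Finset.filter_eq_empty_iff]
      intro t ht hct
      rw [hbl] at ht
      have hxyne : x₀ ≠ y := fun h => hxy (h ▸ Commute.refl x₀)
      have hconj : x₀ * t * x₀ = y * t * y := by
        have e : x₀ * c t * x₀ = y * t * y := by
          simp only [c, mul_inv_rev, hS.inv_eq hx₀, hS.inv_eq hyD, mul_assoc, hS.cancel hx₀,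
            hS.mul_self x₀ hx₀, mul_one]
        rw [hct] at e
        exact e
      obtain ⟨h1, h2⟩ := commute_of_conj_eq hp hp5 hS hx₀ hyD ht.1 hxyne hconj
      exact hxy (htr x₀ hx₀ t ht.1 y hyD h1.symm h2)
    rw [hnofix, Finset.card_empty, hblcard δ hδ.1] at h
    exact Nat.modEq_zero_iff_dvd.1 h
  have hpf : ∀ x ∈ D, ∀ y ∈ D, ¬ Commute x y → p ∣ ((fx x y).image bl).card :=
    fun x hx y hy h => (Nat.modEq_zero_iff_dvd.1 ((hblocks x hx y hy h).symm.trans
      (Nat.modEq_zero_iff_dvd.2 hpN)))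
  -- freeness of a Sylow subgroup
  let P : Sylow p G := default
  have hfree : ∀ w ∈ (P : Subgroup G), ∀ t ∈ Om, Commute w t.1 → Commute w t.2 → w = 1 := by
    rintro w hw ⟨x, y⟩ ht hwx hwy
    rw [hOm] at ht
    obtain ⟨hx, hy, hxy⟩ := ht
    by_contra hw1
    obtain ⟨k, hk⟩ := P.2 ⟨w, hw⟩
    have hk' : w ^ p ^ k = 1 := congrArg Subtype.val hk
    obtain ⟨i, -, hi⟩ := (Nat.dvd_prime_pow hp).1 (orderOf_dvd_of_pow_eq_one hk')
    have hi0 : i ≠ 0 := fun h => hw1 (orderOf_eq_one_iff.1 (by rw [hi, h, pow_zero]))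
    have hdvd : p ∣ orderOf w := hi ▸ dvd_pow_self p hi0
    set v := w ^ (orderOf w / p) with hvdef
    have hvord : orderOf v = p :=
      orderOf_pow_orderOf_div (orderOf_pos w).ne' hdvd
    have hvx : Commute v x := hwx.pow_left _
    have hvy : Commute v y := hwy.pow_left _
    have hblv : bl (v * x * v⁻¹) = bl x := by rw [hvx.eq, mul_inv_cancel_right]
    have h := card_modEq_fixed hp (bl x) (fun s => v * s * v⁻¹)
      (fun t ht => by rw [← hblv, ← hblconj]; exact Finset.mem_image_of_mem _ ht)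
      (fun t _ => by rw [conj_iterate, ← hvord, pow_orderOf_eq_one]; simp)
    rw [hblcard x hx] at h
    have h0 := Nat.modEq_zero_iff_dvd.1 (h.symm.trans (Nat.modEq_zero_iff_dvd.2 hpq))
    have hxfix : x ∈ (bl x).filter fun s => v * s * v⁻¹ = s :=
      Finset.mem_filter.2 ⟨(hbl x x).2 ⟨hx, Commute.refl x⟩,
        by rw [hvx.eq, mul_inv_cancel_right]⟩
    have h2 : 1 < ((bl x).filter fun s => v * s * v⁻¹ = s).card :=
      lt_of_lt_of_le hp.one_lt (Nat.le_of_dvd (Finset.card_pos.2 ⟨x, hxfix⟩) h0)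
    obtain ⟨a, ha, hax⟩ := Finset.exists_mem_ne h2 x
    rw [Finset.mem_filter, hbl] at ha
    have hva : a * v = v * a := (mul_inv_eq_iff_eq_mul.1 ha.2).symm
    have hH : Subgroup.centralizer {v} ≠ ⊤ := by
      intro htop
      have hvc : v ∈ Subgroup.center G := Subgroup.mem_center_iff.2 fun g =>
        Subgroup.mem_centralizer_singleton_iff.1 (htop ▸ Subgroup.mem_top g)
      rcases hsimple (Subgroup.center G) inferInstance with hz | hz
      · rw [hz, Subgroup.mem_bot] at hvc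
        rw [hvc, orderOf_one] at hvord
        exact hp.one_lt.ne hvord
      · exact hxy (Subgroup.mem_center_iff.1 (hz ▸ Subgroup.mem_top y) x)
    have hya : ¬ Commute y a := fun h => hxy (htr x hx a ha.1.1 y hy ha.1.2 h.symm)
    have hyx : ¬ Commute y x := fun h => hxy h.symm
    exact hbad x hx a ha.1.1 y hy ha.1.2 (Ne.symm hax) hyx
      (hsub _ hH x hx a ha.1.1 y hy (Subgroup.mem_centralizer_singleton_iff.2 hvx.symm.eq)
        (Subgroup.mem_centralizer_singleton_iff.2 hva)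
        (Subgroup.mem_centralizer_singleton_iff.2 hvy.symm.eq)
        ha.1.2 (Ne.symm hax) hyx hya)
  have hfxinv : ∀ g : G, ∀ x ∈ D, ∀ y ∈ D,
      (fx (g * x * g⁻¹) (g * y * g⁻¹)).card = (fx x y).card := by
    intro g x hx y hy
    rw [← Finset.card_image_of_injective (fx x y) (hconjinj g)]
    congr 1
    have key : ∀ δ, C (g * x * g⁻¹) (g * y * g⁻¹) (g * δ * g⁻¹) ↔ C x y δ := by
      intro δ
      have e : ∀ z : G, g * z * g⁻¹ * (g * δ * g⁻¹) * (g * z * g⁻¹) = g * (z * δ * z) * g⁻¹ :=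
        fun z => by group
      simp only [C]
      rw [e, e, commute_conj_iff]
    ext t
    simp only [Finset.mem_image, hfx]
    constructor
    · rintro ⟨ht, hc⟩
      refine ⟨g⁻¹ * t * g, ⟨by simpa using hS.conj_mem g⁻¹ t ht, (key _).1 ?_⟩, by group⟩
      convert hc using 1
      group
    · rintro ⟨δ, ⟨hδ, hc⟩, rfl⟩
      exact ⟨hS.conj_mem g δ hδ, (key δ).2 hc⟩
  have hdiv : q * p * Nat.card P ∣ ∑ t ∈ Om, (fx t.1 t.2).card := by
    rw [← Finset.sum_fiberwise_of_maps_to (t := Om.image fun t => (fx t.1 t.2).card)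
      (g := fun t => (fx t.1 t.2).card) (fun t ht => Finset.mem_image_of_mem _ ht)]
    refine Finset.dvd_sum fun k hk => ?_
    obtain ⟨t, ht, rfl⟩ := Finset.mem_image.1 hk
    rw [hOm] at ht
    rw [Finset.sum_const_nat (m := (fx t.1 t.2).card) (fun r hr => (Finset.mem_filter.1 hr).2),
      mul_comm (q * p)]
    refine Nat.mul_dvd_mul (card_dvd_of_free _ _ ?_ ?_) ?_
    rotate_left 2
    · rw [hfxcard _ ht.1 _ ht.2.1]
      exact Nat.mul_dvd_mul_left q (hpf _ ht.1 _ ht.2.1 ht.2.2)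
    · intro w hw r hr
      rw [Finset.mem_filter, hOm] at hr ⊢
      refine ⟨⟨hS.conj_mem w _ hr.1.1, hS.conj_mem w _ hr.1.2.1,
        fun h => hr.1.2.2 ((commute_conj_iff w _ _).1 h)⟩, ?_⟩
      rw [hfxinv w _ hr.1.1 _ hr.1.2.1, hr.2]
    · intro w hw r hr
      exact hfree w hw r (Finset.mem_filter.1 hr).1
  have hvG : q * N ∣ Nat.card G := by
    rw [← hv, ← Set.ncard_eq_toFinset_card D D.toFinite]
    have hD : D = MulAction.orbit (ConjAct G) x₀ := by
      ext z
      rw [ConjAct.mem_orbit_conjAct]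
      refine ⟨fun hz => hcls z hz x₀ hx₀, fun hz => ?_⟩
      obtain ⟨g, hg⟩ := isConj_iff.1 hz.symm
      exact hg ▸ hS.conj_mem g x₀ hx₀
    rw [hD, ← MulAction.index_stabilizer]
    exact Subgroup.index_dvd_card _
  have hfinal : p * Nat.card P ∣ q * N * ((N - 1) * (q - 1)) := by
    have hq0 : 0 < q := by omega
    refine Nat.dvd_of_mul_dvd_mul_left hq0 ?_
    rw [← mul_assoc]
    refine dvd_trans hdiv (dvd_of_eq ?_)
    rw [hsum]
    ring
  have hcop : ∀ m : ℕ, 2 ≤ m → p ∣ m → Nat.Coprime (p * Nat.card P) (m - 1) := by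
    intro m hm hpm
    have h1 : Nat.Coprime p (m - 1) := by
      refine (hp.coprime_iff_not_dvd).2 fun hd => ?_
      have := Nat.dvd_sub hpm hd
      rw [show m - (m - 1) = 1 by omega] at this
      exact hp.not_dvd_one this
    rw [Sylow.card_eq_multiplicity, ← pow_succ']
    exact h1.pow_left _
  have hdv : p * Nat.card P ∣ q * N :=
    (Nat.Coprime.mul_right (hcop N hN2 hpN) (hcop q hq2 hpq)).dvd_of_dvd_mul_right hfinal
  have := hdv.trans hvG
  rw [Sylow.card_eq_multiplicity, ← pow_succ',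
    hp.pow_dvd_iff_le_factorization Nat.card_pos.ne'] at this
  omega

end Setup

end CfsgLib.RankThreeInvol
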