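import Cfsg.Agent.RankThreeInvol.Counting

/-!
# Every triple is good

Induction on the order of the group: a smallest bad group would be simple.
-/

set_option autoImplicit false

namespace CfsgLib.RankThreeInvol

universe u

namespace Setup

variable {G : Type u} [Group G] {p : ℕ} {D : Set G}

theorem restrict (hS : Setup p D) (H : Subgroup G) :
    Setup p {h : ↥H | (h : G) ∈ D} where
  one_not_mem h := hS.one_not_mem h
  mul_self h hh := Subtype.ext (hS.mul_self _ hh)
  conj_mem g h hh := hS.conj_mem _ _ hh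
  dich x hx y hy := by
    rcases hS.dich _ hx _ hy with h | h
    · exact Or.inl (Subtype.ext h)
    · exact Or.inr (Subtype.ext h)

theorem quotient (hS : Setup p D) (N : Subgroup G) [N.Normal] :
    Setup p {z : G ⧸ N | z ≠ 1 ∧ ∃ d ∈ D, (d : G ⧸ N) = z} where
  one_not_mem h := h.1 rfl
  mul_self := by
    rintro _ ⟨-, d, hd, rfl⟩
    rw [← QuotientGroup.mk_mul, hS.mul_self d hd]
    rfl
  conj_mem := by
    intro g z hz
    obtain ⟨hz1, d, hd, rfl⟩ := hz
    induction g using QuotientGroup.induction_on with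
    | H g =>
      refine ⟨fun h => hz1 ?_, g * d * g⁻¹, hS.conj_mem g d hd, by simp⟩
      rwa [mul_inv_eq_one, mul_eq_left] at h
  dich := by
    rintro _ ⟨-, x, hx, rfl⟩ _ ⟨-, y, hy, rfl⟩
    rcases hS.dich x hx y hy with h | h
    · exact Or.inl (h.map (QuotientGroup.mk' N))
    · exact Or.inr (by rw [← QuotientGroup.mk_mul, ← QuotientGroup.mk_pow, h]; rfl)

/-- Replacing `D` by the class of one of its members. -/
theorem of_class (hS : Setup p D) {x : G} (hx : x ∈ D) : Setup p (conjugatesOf x) := by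
  have hsub : ∀ z ∈ conjugatesOf x, z ∈ D := by
    intro z hz
    obtain ⟨g, rfl⟩ := isConj_iff.1 hz
    exact hS.conj_mem g x hx
  refine ⟨fun h => hS.one_not_mem (hsub 1 h), fun d hd => hS.mul_self d (hsub d hd),
    fun g d hd => ?_, fun a ha b hb => hS.dich a (hsub a ha) b (hsub b hb)⟩
  exact IsConj.trans hd (isConj_iff.2 ⟨g, rfl⟩)

variable (hp : p.Prime) (hp5 : 5 ≤ p)
include hp hp5

theorem isConj_of_nc (hS : Setup p D) {d x : G} (hd : d ∈ D) (hx : x ∈ D)
    (h : ¬ Commute d x) : IsConj d x := by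
  obtain ⟨y, hy, hyd⟩ := exists_mid hp hp5 hS hd hx h
  exact isConj_iff.2 ⟨y, by rw [hS.inv_eq hy]; exact hyd⟩

/-- An element whose square dies, killed by `p` too, dies. -/
theorem mem_of_sq_mem (N : Subgroup G) [N.Normal] {g : G} (h2 : ((g : G ⧸ N)) ^ 2 = 1)
    (hpow : g ^ p = 1) : g ∈ N := by
  refine (QuotientGroup.eq_one_iff g).1 (eq_one_of_pow_coprime h2 (n := p) ?_
    ((Nat.coprime_primes Nat.prime_two hp).2 (by omega)))
  rw [← QuotientGroup.mk_pow, hpow]
  rfl

/-- A bad triple stays bad modulo a normal subgroup avoiding it. -/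
theorem bad_quotient (hS : Setup p D) (N : Subgroup G) [N.Normal]
    (hgood : Good {z : G ⧸ N | z ≠ 1 ∧ ∃ d ∈ D, (d : G ⧸ N) = z})
    {x a d : G} (hx : x ∈ D) (ha : a ∈ D) (hd : d ∈ D)
    (hxa : Commute x a) (hdx : ¬ Commute d x) (hda : ¬ Commute d a)
    (hbad : ¬ Commute d (x * a * d * (x * a)))
    (hxN : x ∉ N) (haN : a ∉ N) (hdN : d ∉ N) (heN : x * a ∉ N) (hdxN : d * x ∉ N)
    (hdaN : d * a ∉ N) (hddN : d * (x * a * d * (x * a)) ∉ N) : False := by
  have hne1 : ∀ z ∈ D, z ∉ N → ((z : G ⧸ N)) ≠ 1 := fun z _ hz h =>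
    hz ((QuotientGroup.eq_one_iff z).1 h)
  have hnc : ∀ u ∈ D, ∀ v ∈ D, ¬ Commute u v → u * v ∉ N →
      ¬ Commute (u : G ⧸ N) (v : G ⧸ N) := by
    intro u hu v hv huv hN hc
    refine hN (mem_of_sq_mem hp hp5 N ?_ (hS.pow_of_nc hu hv huv))
    rw [QuotientGroup.mk_mul, sq, hc.symm.mul_mul_mul_comm, ← QuotientGroup.mk_mul,
      ← QuotientGroup.mk_mul, hS.mul_self u hu, hS.mul_self v hv]
    exact one_mul _
  have hne : ((x : G ⧸ N)) ≠ a := by
    intro h
    rw [QuotientGroup.eq] at h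
    rw [hS.inv_eq hx] at h
    exact heN h
  have hei : (x * a)⁻¹ = x * a := inv_eq_of_mul_eq_one_left (hS.prod_mul_self hx ha hxa)
  have hd' : x * a * d * (x * a) ∈ D := by simpa [hei] using hS.conj_mem (x * a) d hd
  have h := hgood _ ⟨hne1 x hx hxN, x, hx, rfl⟩ _ ⟨hne1 a ha haN, a, ha, rfl⟩ _
    ⟨hne1 d hd hdN, d, hd, rfl⟩ (hxa.map (QuotientGroup.mk' N)) hne
    (hnc d hd x hx hdx hdxN) (hnc d hd a ha hda hdaN)
  simp only [← QuotientGroup.mk_mul] at h
  exact hnc d hd _ hd' hbad hddN h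

end Setup

open Setup in
/-- Every commuting pair is good with respect to every member commuting with neither. -/
theorem good_aux {p : ℕ} (hp : p.Prime) (hp5 : 5 ≤ p) :
    ∀ (n : ℕ) (G : Type u) [Group G] [Finite G], Nat.card G = n →
      ∀ D : Set G, Setup p D → Good D := by
  intro n
  induction n using Nat.strong_induction_on with
  | _ n ih =>
  intro G _ _ hn D₀ hS₀ x hx₀ a ha₀ d hd₀ hxa hne hdx hda
  -- the statement for proper subgroups
  have hsub : ∀ D : Set G, Setup p D → ∀ H : Subgroup G, H ≠ ⊤ →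
      ∀ x ∈ D, ∀ a ∈ D, ∀ d ∈ D, x ∈ H → a ∈ H → d ∈ H → Commute x a → x ≠ a →
      ¬ Commute d x → ¬ Commute d a → Commute d (x * a * d * (x * a)) := by
    intro D hS H hH x hx a ha d hd hxH haH hdH hxa hne hdx hda
    have hlt : Nat.card ↥H < n := by
      rw [← hn]
      exact lt_of_le_of_ne (Subgroup.card_le_card_group H)
        fun h => hH (Subgroup.eq_top_of_card_eq H h)
    have h := ih _ hlt ↥H rfl _ (hS.restrict H) ⟨x, hxH⟩ hx ⟨a, haH⟩ ha ⟨d, hdH⟩ hd
      (Subtype.ext hxa) (fun h => hne (congrArg Subtype.val h))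
      (fun h => hdx (congrArg Subtype.val h)) (fun h => hda (congrArg Subtype.val h))
    exact congrArg Subtype.val h
  by_contra hbad
  -- quotients are good
  have hquot : ∀ D : Set G, Setup p D → ∀ N : Subgroup G, ∀ [N.Normal], N ≠ ⊥ →
      Good {z : G ⧸ N | z ≠ 1 ∧ ∃ d ∈ D, (d : G ⧸ N) = z} := by
    intro D hS N hN hNbot
    refine ih _ ?_ (G ⧸ N) rfl _ (hS.quotient N)
    rw [← hn, N.card_eq_card_quotient_mul_card_subgroup]
    exact lt_mul_of_one_lt_right Nat.card_pos (N.one_lt_card_iff_ne_bot.2 hNbot)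
  -- the centre is trivial
  have hei : (x * a)⁻¹ = x * a := inv_eq_of_mul_eq_one_left (hS₀.prod_mul_self hx₀ ha₀ hxa)
  have hd' : x * a * d * (x * a) ∈ D₀ := by simpa [hei] using hS₀.conj_mem (x * a) d hd₀
  have hZ : Subgroup.center G = ⊥ := by
    by_contra hZ
    refine bad_quotient hp hp5 hS₀ (Subgroup.center G) (hquot D₀ hS₀ _ hZ) hx₀ ha₀ hd₀ hxa hdx
      hda hbad ?_ ?_ ?_ ?_ ?_ ?_ ?_
    · exact fun h => hdx (Subgroup.mem_center_iff.1 h d)
    · exact fun h => hda (Subgroup.mem_center_iff.1 h d)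
    · exact fun h => hdx (Subgroup.mem_center_iff.1 h x).symm
    · intro h
      have hc : Commute d (x * a) := Subgroup.mem_center_iff.1 h d
      rw [← hc.eq, mul_assoc, hS₀.prod_mul_self hx₀ ha₀ hxa, mul_one] at hbad
      exact hbad (Commute.refl d)
    all_goals intro h
    · have hc := Subgroup.mem_center_iff.1 h d
      rw [← mul_assoc d d, hS₀.mul_self d hd₀, one_mul] at hc
      exact hdx (hS₀.commute_of_conj_eq_self hd₀ hc.symm)
    · have hc := Subgroup.mem_center_iff.1 h d
      rw [← mul_assoc d d, hS₀.mul_self d hd₀, one_mul] at hc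
      exact hda (hS₀.commute_of_conj_eq_self hd₀ hc.symm)
    · have hc := Subgroup.mem_center_iff.1 h d
      rw [← mul_assoc d d, hS₀.mul_self d hd₀, one_mul] at hc
      exact hbad (hS₀.commute_of_conj_eq_self hd₀ hc.symm)
  -- pass to one class
  have hdxc : IsConj d x := isConj_of_nc hp hp5 hS₀ hd₀ hx₀ hdx
  have hdac : IsConj d a := isConj_of_nc hp hp5 hS₀ hd₀ ha₀ hda
  have hS : Setup p (conjugatesOf x) := hS₀.of_class hx₀
  set D := conjugatesOf x with hD
  have hx : x ∈ D := IsConj.refl x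
  have hd : d ∈ D := hdxc.symm
  have ha : a ∈ D := hdxc.symm.trans hdac
  have htop : ∀ H : Subgroup G, x ∈ H → a ∈ H → d ∈ H → H = ⊤ := by
    intro H h1 h2 h3
    by_contra hH
    exact hbad (hsub D₀ hS₀ H hH x hx₀ a ha₀ d hd₀ h1 h2 h3 hxa hne hdx hda)
  have hgen : Subgroup.closure D = ⊤ := htop _ (Subgroup.subset_closure hx)
    (Subgroup.subset_closure ha) (Subgroup.subset_closure hd)
  have hcls : ∀ u ∈ D, ∀ v ∈ D, IsConj u v := fun u hu v hv => IsConj.trans (IsConj.symm hu) hv
  -- every bad triple has the product in `D`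
  have hGA : GoodOrMem D := by
    intro x' hx' a' ha' d' hd' hxa' hne' hdx' hda'
    by_cases hb : Commute d' (x' * a' * d' * (x' * a'))
    · exact Or.inl hb
    refine Or.inr ?_
    have htop' : ∀ H : Subgroup G, x' ∈ H → a' ∈ H → d' ∈ H → H = ⊤ := by
      intro H h1 h2 h3
      by_contra hH
      exact hb (hsub D hS H hH x' hx' a' ha' d' hd' h1 h2 h3 hxa' hne' hdx' hda')
    obtain ⟨y, hy, hye, hyx, hya, hyd⟩ := path_fix hp hp5 hS hx' ha' hd' hxa' hne' hb
    set e := x' * a' with he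
    have hee : e * e = 1 := hS.prod_mul_self hx' ha' hxa'
    set j := e * y with hj
    have hjc : Subgroup.centralizer {j} = ⊤ := by
      refine htop' _ ?_ ?_ ?_ <;> rw [Subgroup.mem_centralizer_singleton_iff]
      · exact ((((Commute.refl x').mul_right hxa').mul_right hyx.symm)).eq
      · exact (((hxa'.symm.mul_right (Commute.refl a')).mul_right hya.symm)).eq
      · have h1 : e * y * d' * (y * e) = d' := by
          calc e * y * d' * (y * e) = e * (y * d' * y) * e := by group
            _ = (e * e) * d' * (e * e) := by rw [hyd]; group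
            _ = d' := by rw [hee, one_mul, mul_one]
        have h2 : y * e * (e * y) = 1 := by
          rw [mul_assoc, ← mul_assoc e e y, hee, one_mul, hS.mul_self y hy]
        calc d' * (e * y) = e * y * d' * (y * e) * (e * y) := by rw [h1]
          _ = e * y * d' * (y * e * (e * y)) := by rw [mul_assoc]
          _ = e * y * d' := by rw [h2, mul_one]
    have hjmem : j ∈ Subgroup.center G := Subgroup.mem_center_iff.2 fun g =>
      Subgroup.mem_centralizer_singleton_iff.1 (hjc ▸ Subgroup.mem_top g)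
    rw [hZ, Subgroup.mem_bot] at hjmem
    have hey : e = y := by rw [eq_inv_of_mul_eq_one_left hjmem, hS.inv_eq hy]
    exact hey ▸ hy
  have heD : x * a ∈ D :=
    (hGA x hx a ha d hd hxa hne hdx hda).resolve_left hbad
  have hde : ¬ Commute d (x * a) := fun hc => hbad (by
    rw [← hc.eq, mul_assoc, hS.prod_mul_self hx ha hxa, mul_one])
  -- simplicity
  have hsimple : ∀ N : Subgroup G, N.Normal → N = ⊥ ∨ N = ⊤ := by
    intro N hN
    by_contra hc
    push Not at hc
    have hdisj : ∀ z ∈ D, z ∉ N := by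
      intro z hz hzN
      refine hc.2 (eq_top_iff.2 (hgen ▸ (Subgroup.closure_le N).2 fun t ht => ?_))
      obtain ⟨g, rfl⟩ := isConj_iff.1 (hcls z hz t ht)
      exact hN.conj_mem z hzN g
    have h2 : ∀ z ∈ D, ((z : G ⧸ N)) * z = 1 := fun z hz => by
      rw [← QuotientGroup.mk_mul, hS.mul_self z hz]; rfl
    have hxq : Commute (x : G ⧸ N) (a : G ⧸ N) := hxa.map (QuotientGroup.mk' N)
    refine bad_quotient hp hp5 hS N (hquot D hS N hc.1) hx ha hd hxa hdx hda hbad
      (hdisj x hx) (hdisj a ha) (hdisj d hd) (hdisj _ heD) ?_ ?_ ?_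
    · -- `d * x ∈ N` would put `x * a` into `N`
      intro h
      have hdxq : (d : G ⧸ N) = x := by
        rw [QuotientGroup.eq, hS.inv_eq hd]; exact h
      refine hdisj _ heD ?_
      have hdaN : d * a ∈ N := by
        refine mem_of_sq_mem hp hp5 N ?_ (hS.pow_of_nc hd ha hda)
        rw [QuotientGroup.mk_mul, hdxq, sq, hxq.symm.mul_mul_mul_comm, h2 x hx, h2 a ha, one_mul]
      have hdaq : (d : G ⧸ N) = a := by
        rw [QuotientGroup.eq, hS.inv_eq hd]; exact hdaN
      rw [← QuotientGroup.eq_one_iff, QuotientGroup.mk_mul, ← hdaq, ← hdxq]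
      exact h2 d hd
    · intro h
      have hdaq : (d : G ⧸ N) = a := by
        rw [QuotientGroup.eq, hS.inv_eq hd]; exact h
      refine hdisj _ heD ?_
      have hdxN : d * x ∈ N := by
        refine mem_of_sq_mem hp hp5 N ?_ (hS.pow_of_nc hd hx hdx)
        rw [QuotientGroup.mk_mul, hdaq, sq, hxq.mul_mul_mul_comm, h2 x hx, h2 a ha, one_mul]
      have hdxq : (d : G ⧸ N) = x := by
        rw [QuotientGroup.eq, hS.inv_eq hd]; exact hdxN
      rw [← QuotientGroup.eq_one_iff, QuotientGroup.mk_mul, ← hdaq, ← hdxq]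
      exact h2 d hd
    · intro h
      have hsq : ((d * (x * a) : G) : G ⧸ N) ^ 2 = 1 := by
        rw [← QuotientGroup.mk_pow, QuotientGroup.eq_one_iff, sq]
        simpa [mul_assoc] using h
      have hmem := mem_of_sq_mem hp hp5 N hsq (hS.pow_of_nc hd heD hde)
      have hdeq : (d : G ⧸ N) = (x : G ⧸ N) * a := by
        rw [← QuotientGroup.mk_mul, QuotientGroup.eq, hS.inv_eq hd]; exact hmem
      have hax : ((d * x : G) : G ⧸ N) = a := by
        rw [QuotientGroup.mk_mul, hdeq, hxq.eq, mul_assoc, h2 x hx, mul_one]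
      have hdxN : d * x ∈ N := mem_of_sq_mem hp hp5 N
        (by rw [hax, sq, h2 a ha]) (hS.pow_of_nc hd hx hdx)
      rw [(QuotientGroup.eq_one_iff _).2 hdxN] at hax
      exact hdisj a ha ((QuotientGroup.eq_one_iff a).1 hax.symm)
  exact no_simple hp hp5 hS hGA hgen hcls hsimple (hsub D hS) hx ha hd hxa hne hdx

/-- Every commuting pair is good with respect to every member commuting with neither. -/
theorem good {G : Type u} [Group G] [Finite G] {p : ℕ} (hp : p.Prime) (hp5 : 5 ≤ p) {D : Set G}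
    (hS : Setup p D) : Good D :=
  good_aux hp hp5 _ G rfl D hS

end CfsgLib.RankThreeInvol
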