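import Cfsg.Agent.RankThreeInvol.Main
import Cfsg.Agent.ZStar.Theorem
import Cfsg.Agent.S0200
import Cfsg.Agent.S0205

/-!
# The rank three class consists of 3-transpositions
-/

set_option autoImplicit false

namespace CfsgLib.RankThreeInvol

variable {G : Type*} [Group G] [Finite G]

/-- An involution all of whose products with conjugates have order dividing 4 lies in the
solvable radical. -/
theorem false_of_pow_four (hsol : ∀ N : Subgroup G, N.Normal → Group.IsSolvable ↥N → N = ⊥)
    {t : G} (ht : orderOf t = 2) (h : ∀ g : G, (t * (g * t * g⁻¹)) ^ 4 = 1) : False := by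
  have ht2 : t * t = 1 := by rw [← sq, ← ht, pow_orderOf_eq_one]
  have hti : t⁻¹ = t := inv_eq_of_mul_eq_one_left ht2
  by_cases hO : ∀ N : Subgroup G, N.Normal → IsPGroup 2 N → t ∉ N
  · obtain ⟨k, hk1, hkodd, hk⟩ := Cfsg.Agent.S0200.result t ht hO
    have h4 := h k
    have e : t * (k * t * k⁻¹) = k⁻¹ * k⁻¹ := by
      calc t * (k * t * k⁻¹) = t * k * t⁻¹ * k⁻¹ := by rw [hti]; group
        _ = k⁻¹ * k⁻¹ := by rw [hk]
    rw [e, ← sq, ← pow_mul, inv_pow, inv_eq_one] at h4
    have hdvd : orderOf k ∣ 2 ^ 3 := orderOf_dvd_of_pow_eq_one h4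
    obtain ⟨i, -, hi⟩ := (Nat.dvd_prime_pow Nat.prime_two).1 hdvd
    rcases i with _ | i
    · exact hk1 (orderOf_eq_one_iff.1 (by rw [hi, pow_zero]))
    · rw [hi] at hkodd
      exact (Nat.not_odd_iff_even.2 (by simp [pow_succ])) hkodd
  · push Not at hO
    obtain ⟨N, hN, hNp, htN⟩ := hO
    haveI : Fact (Nat.Prime 2) := ⟨Nat.prime_two⟩
    haveI : Group.IsNilpotent ↥N := hNp.isNilpotent
    have := hsol N hN inferInstance
    rw [this, Subgroup.mem_bot] at htN
    rw [htN, orderOf_one] at ht
    exact absurd ht (by omega)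

/-- A generating class of involutions in a group with trivial solvable radical has no prime
`p ≥ 5` as the order of all products of non-commuting pairs. -/
theorem false_of_large_prime (hsol : ∀ N : Subgroup G, N.Normal → Group.IsSolvable ↥N → N = ⊥)
    {D : Set G} (hinv : ∀ d ∈ D, orderOf d = 2) (hcls : ∀ x ∈ D, ∀ y ∈ D, IsConj x y)
    (hgen : Subgroup.closure D = ⊤) {p : ℕ} (hp : p.Prime) (hp5 : 5 ≤ p) (hS : Setup p D)
    {x a : G} (hx : x ∈ D) (ha : a ∈ D) (hxa : Commute x a) (hne : x ≠ a) : False := by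
  have hgood := good hp hp5 hS
  have htr : ∀ u ∈ D, ∀ v ∈ D, ∀ w ∈ D, Commute u v → Commute v w → Commute u w :=
    fun u hu v hv w hw huv hvw =>
      Setup.commute_trans hp hp5 hS hgood.goodOrMem hgen hcls hv hw hu hvw huv
  have hK := Setup.prod_mem_commKer hS htr hx ha hxa fun d hd => hgood x hx a ha d hd hxa hne
  have hee := hS.prod_mul_self hx ha hxa
  set e := x * a with he
  have hei : e⁻¹ = e := inv_eq_of_mul_eq_one_left hee
  have he1 : e ≠ 1 := fun h => hne (by
    rw [eq_inv_of_mul_eq_one_left (he ▸ h : x * a = 1), hS.inv_eq ha])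
  have hord : orderOf e = 2 := by
    haveI : Fact (Nat.Prime 2) := ⟨Nat.prime_two⟩
    exact orderOf_eq_prime (by rw [sq]; exact hee) he1
  refine false_of_pow_four hsol hord fun g => ?_
  set f := g * e * g⁻¹ with hf
  set b := g * x * g⁻¹ with hb
  set c := g * a * g⁻¹ with hc
  have hfbc : f = b * c := by rw [hf, hb, hc, he]; group
  have hbm : b ∈ D := hS.conj_mem g x hx
  have hcm : c ∈ D := hS.conj_mem g a ha
  have hbc : Commute b c := (commute_conj_iff g x a).2 hxa
  have hmem : ∀ d ∈ D, e * d * e ∈ D := fun d hd => by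
    simpa [hei] using hS.conj_mem e d hd
  have hfix : ∀ d ∈ D, Commute (e * d * e) d := fun d hd => by
    have := hK d hd; rwa [hei] at this
  have h1 : Commute b (e * b * e) := (hfix b hbm).symm
  have h2 : Commute c (e * c * e) := (hfix c hcm).symm
  have h3 : Commute c (e * b * e) := htr c hcm b hbm _ (hmem b hbm) hbc.symm h1
  have h4 : Commute b (e * c * e) := htr b hbm c hcm _ (hmem c hcm) hbc h2
  have hfe : Commute f (e * f * e) := by
    have e1 : e * f * e = (e * b * e) * (e * c * e) := by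
      calc e * f * e = e * b * (e * e) * c * e := by rw [hfbc, hee]; group
        _ = (e * b * e) * (e * c * e) := by group
    rw [e1, hfbc]
    exact (h1.mul_right h4).mul_left (h3.mul_right h2)
  have hff : f * f = 1 := by
    rw [hf]
    calc g * e * g⁻¹ * (g * e * g⁻¹) = g * (e * e) * g⁻¹ := by group
      _ = 1 := by rw [hee]; group
  calc (e * f) ^ 4 = e * f * e * f * (e * f * e * f) := by
        rw [pow_succ, pow_succ, pow_succ, pow_one]; group
    _ = (e * f * e) * (e * f * e) * f * f := by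
        rw [mul_assoc (e * f * e) f, ← mul_assoc f (e * f * e) f, hfe.eq]; group
    _ = (e * f * e) * (e * f * e) * (f * f) := by group
    _ = e * f * (e * e) * f * e := by rw [hff, mul_one]; group
    _ = 1 := by rw [hee, mul_one, mul_assoc e f f, hff, mul_one, hee]

/-- A generating class of involutions of rank at most three in a group with trivial solvable
radical consists of 3-transpositions. -/
theorem sq_or_cube (hsol : ∀ N : Subgroup G, N.Normal → Group.IsSolvable ↥N → N = ⊥)
    {D : Set G} (hinv : ∀ d ∈ D, orderOf d = 2) (hcls : ∀ x ∈ D, ∀ y ∈ D, IsConj x y)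
    (hclosed : ∀ g : G, ∀ d ∈ D, g * d * g⁻¹ ∈ D) (hgen : Subgroup.closure D = ⊤)
    {m₁ m₂ : ℕ} (hord : ∀ u ∈ D, ∀ v ∈ D, orderOf (u * v) = 1 ∨ orderOf (u * v) = m₁ ∨
      orderOf (u * v) = m₂) :
    ∀ u ∈ D, ∀ v ∈ D, (u * v) ^ 2 = 1 ∨ (u * v) ^ 3 = 1 := by
  intro u hu v hv
  have hsq : ∀ d ∈ D, d * d = 1 := fun d hd => by rw [← sq, ← hinv d hd, pow_orderOf_eq_one]
  have hinv' : ∀ d ∈ D, d⁻¹ = d := fun d hd => inv_eq_of_mul_eq_one_left (hsq d hd)
  -- some pair has product of order two
  obtain ⟨x, hx, a, ha, hxa, hne⟩ : ∃ x ∈ D, ∃ a ∈ D, Commute x a ∧ x ≠ a := by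
    by_contra hno
    push Not at hno
    have hiso : Cfsg.IsIsolatedInvolution u :=
      ⟨hinv u hu, fun g hc => (hno u hu _ (hclosed g u hu) hc).symm⟩
    have hcen : u ∈ Subgroup.center G := CfsgLib.ZStar.mem_center_of_isolated hiso
      fun N hN hodd => hsol N hN (Cfsg.Agent.S0205.result hodd)
    have hbot : Subgroup.center G = ⊥ := hsol _ inferInstance
      (Group.isSolvable_of_comm fun a b => Subtype.ext (Subgroup.mem_center_iff.1 b.2 a))
    rw [hbot, Subgroup.mem_bot] at hcen
    have := hinv u hu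
    rw [hcen, orderOf_one] at this
    omega
  have h2 : orderOf (x * a) = 2 := by
    haveI : Fact (Nat.Prime 2) := ⟨Nat.prime_two⟩
    refine orderOf_eq_prime ?_ fun h => hne (by rw [eq_inv_of_mul_eq_one_left h, hinv' a ha])
    rw [sq, hxa.symm.mul_mul_mul_comm, hsq x hx, hsq a ha, one_mul]
  -- so there is at most one further order
  obtain ⟨n, hn⟩ : ∃ n, ∀ u ∈ D, ∀ v ∈ D,
      orderOf (u * v) = 1 ∨ orderOf (u * v) = 2 ∨ orderOf (u * v) = n := by
    rcases hord x hx a ha with h | h | h
    · omega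
    · exact ⟨m₂, fun u hu v hv => by have := hord u hu v hv; omega⟩
    · exact ⟨m₁, fun u hu v hv => by have := hord u hu v hv; omega⟩
  by_contra hc
  push Not at hc
  have hk : orderOf (u * v) = n ∧ 4 ≤ n := by
    have hpos : 0 < orderOf (u * v) := orderOf_pos _
    have h1' : orderOf (u * v) ≠ 1 := fun h => hc.1 (by
      rw [orderOf_eq_one_iff.1 h, one_pow])
    have h2' : orderOf (u * v) ≠ 2 := fun h => hc.1 (h ▸ pow_orderOf_eq_one _)
    have h3' : orderOf (u * v) ≠ 3 := fun h => hc.2 (h ▸ pow_orderOf_eq_one _)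
    have := hn u hu v hv
    omega
  obtain ⟨hun, hn4⟩ := hk
  set w := u * v with hw
  rcases Nat.even_or_odd n with hev | hodd
  · -- even order: every product is killed by 4
    have hw2 : w ^ 2 = u * (v * u * v⁻¹) := by rw [sq, hw, hinv' v hv]; group
    have h := hn u hu _ (hclosed v u hu)
    rw [← hw2, orderOf_pow' w two_ne_zero, hun, Nat.gcd_eq_right hev.two_dvd] at h
    have hn44 : n = 4 := by obtain ⟨i, hi⟩ := hev; omega
    refine false_of_pow_four hsol (hinv u hu) fun g => ?_
    rw [← orderOf_dvd_iff_pow_eq_one]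
    rcases hn u hu _ (hclosed g u hu) with h | h | h <;> rw [h]
    · exact one_dvd 4
    · norm_num
    · rw [hn44]
  · -- odd order: it is a prime
    have hsc : SemiconjBy v w⁻¹ w := by
      show v * w⁻¹ = w * v
      rw [hw, mul_inv_rev, hinv' v hv, hinv' u hu, ← mul_assoc, hsq v hv, one_mul,
        mul_assoc, hsq v hv, mul_one]
    have hoddpow : ∀ j : ℕ, ∃ z ∈ D, u * z = w ^ (2 * j + 1) := by
      intro j
      refine ⟨(w ^ j)⁻¹ * v * (w ^ j), by simpa using hclosed (w ^ j)⁻¹ v hv, ?_⟩
      have hu' : SemiconjBy u w w⁻¹ := by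
        show u * w = w⁻¹ * u
        rw [hw, mul_inv_rev, hinv' v hv, hinv' u hu, ← mul_assoc, hsq u hu, one_mul, mul_assoc,
          hsq u hu, mul_one]
      have h1 := (hu'.inv_right.pow_right j).eq
      rw [inv_inv, inv_pow] at h1
      calc u * ((w ^ j)⁻¹ * v * w ^ j) = u * (w ^ j)⁻¹ * v * w ^ j := by group
        _ = w ^ j * (u * v) * w ^ j := by rw [h1]; group
        _ = w ^ (2 * j + 1) := by rw [← hw, ← pow_succ, ← pow_add]; congr 1; omega
    have hprime : n.Prime := by
      refine Nat.prime_def.2 ⟨by omega, fun m hm => ?_⟩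
      obtain ⟨t, ht⟩ := hm
      have htodd : Odd t := (Nat.odd_mul.1 (ht ▸ hodd)).2
      have hmodd : Odd m := (Nat.odd_mul.1 (ht ▸ hodd)).1
      obtain ⟨j, rfl⟩ := htodd
      obtain ⟨z, hz, hzw⟩ := hoddpow j
      have h := hn u hu z hz
      rw [hzw, orderOf_pow' w (by omega), hun, ht,
        Nat.gcd_eq_right (dvd_mul_left _ _), Nat.mul_div_cancel _ (by omega)] at h
      rw [← ht] at h
      rcases h with h | h | h
      · exact Or.inl h
      · subst h; exact absurd hmodd (by decide)
      · exact Or.inr h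
    have hn5 : 5 ≤ n := by
      rcases hodd with ⟨j, hj⟩; omega
    refine false_of_large_prime hsol hinv hcls hgen hprime hn5 ⟨?_, hsq, hclosed, ?_⟩
      hx ha hxa hne
    · intro h1
      have := hinv 1 h1
      rw [orderOf_one] at this
      omega
    · intro r hr s hs
      rcases hn r hr s hs with h | h | h
      · refine Or.inl ?_
        rw [eq_inv_of_mul_eq_one_left (orderOf_eq_one_iff.1 h), hinv' s hs]
      · refine Or.inl ?_
        have h' : r * s * (r * s) = 1 := by rw [← sq, ← h, pow_orderOf_eq_one]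
        have := inv_eq_of_mul_eq_one_left h'
        rw [mul_inv_rev, hinv' r hr, hinv' s hs] at this
        exact this.symm
      · exact Or.inr (h ▸ pow_orderOf_eq_one _)

end CfsgLib.RankThreeInvol
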